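import Groth.Agent.CrossLib.Family
import Groth.Agent.BivarLib.ProperPush
import Groth.Agent.InsepLenLib.Scheme
import Groth.Agent.S1868

/-!
# Base change of cycles along field extensions: dimensions, composition and finite extensions
-/

set_option autoImplicit false
set_option backward.isDefEq.respectTransparency false
set_option linter.style.haveILetI false
set_option linter.unusedSectionVars false

universe u

open CategoryTheory CategoryTheory.Limits AlgebraicGeometry TopologicalSpace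

noncomputable section

namespace Groth.Agent.ChowFldLib

open CycLib BivarLib CrossLib

variable {k K : Type u} [Field k] [Field K]

/-- Morphisms to the spectrum of a field are flat. -/
theorem flat_spec {X : Scheme.{u}} (f : X ⟶ Spec (CommRingCat.of k)) : Flat f :=
  ASp.flat_of_isField_stalk _ fun s => (DimFormulaLib.isField_stalk k s).1

variable {X Y : Scheme.{u}} {pX : X ⟶ Spec (CommRingCat.of k)} [LocallyOfFiniteType pX]
  {pY : Y ⟶ Spec (CommRingCat.of K)} {g : Y ⟶ X} {sp : Spec (CommRingCat.of K) ⟶ Spec (CommRingCat.of k)}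
  (hsq : IsPullback g pY pX sp) {δX : X → ℤ} {δY : Y → ℤ}
  (hX : Cyc.DeltaCompat pX δX (fun _ => 0)) (hY : Cyc.DeltaCompat pY δY (fun _ => 0))

include hsq in
theorem lft_pY : LocallyOfFiniteType pY := MorphismProperty.of_isPullback hsq (inferInstance : LocallyOfFiniteType pX)

include hsq in
theorem flat_g : Flat g := MorphismProperty.of_isPullback hsq.flip (flat_spec sp)

include hsq hY in
theorem setup_Y : Cyc.IsSetup Y δY := by
  haveI := lft_pY hsq
  exact isSetup_of_lft pY (isSetup_spec_field K) hY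

include hX in
theorem setup_X : Cyc.IsSetup X δX := isSetup_of_lft pX (isSetup_spec_field k) hX

include hsq hX hY in
/-- Base change along a field extension keeps the dimension of the generic points of fibres. -/
theorem isShift_fieldExt : IsShift g δY δX 0 := by
  intro x' hx'
  haveI := lft_pY hsq
  haveI := flat_g hsq
  have hsX := setup_X hX
  have hsY := setup_Y hsq hY
  obtain ⟨r, -, hr⟩ := hX (g x')
  have hr' : δX (g x') = r := by simpa using hr
  let v := pointCycle (g x') 1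
  have hv : v ∈ Cyc.Zk X δX r := mem_Zk_point _ _ fun _ => hr'
  have hne : v (g x') ≠ 0 := by rw [pointCycle_self]; exact one_ne_zero
  let a : Idx v := ⟨⟨g x', hne⟩, ⟨⟨0, by simp [v, pointCycle_self]⟩⟩⟩
  let j' := pullback.snd (jW v) g
  haveI : IsFinite j' := MorphismProperty.pullback_snd _ _ inferInstance
  have sqZ : IsPullback (pullback.fst (jW v) g) (j' ≫ pY) (pW v pX) sp :=
    (IsPullback.of_hasPullback (jW v) g).paste_vert hsq
  obtain ⟨dZ, hdZ⟩ := exists_delta (j' ≫ pY) (fun _ : Spec (CommRingCat.of K) => (0 : ℤ))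
  have hsZ : Cyc.IsSetup (pullback (jW v) g) dZ := isSetup_of_lft (j' ≫ pY) (isSetup_spec_field K) hdZ
  haveI : Flat (j' ≫ pY) := flat_spec _
  have hshift : IsShift (j' ≫ pY) dZ (fun _ => (0 : ℤ)) (r : ℤ) :=
    IsShift.of_relDim hsZ (isSetup_spec_field K) r (hasRelDim_baseChange sqZ r (hasRelDim_pW v pX δX hX hv)) hdZ
  have hj' : Cyc.DeltaCompat j' dZ δY := deltaCompat_of_comp j' pY hdZ hY
  have heq : ∀ z, dZ z = δY (j' z) := fun z => by
    obtain ⟨n, hn, e⟩ := hj' z
    obtain rfl : n = 0 := by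
      have h1 : (n : Cardinal.{u}) = 0 := hn.symm.trans (InsepLenLib.resTrdegAt_eq_zero_of_integral j' z)
      exact_mod_cast h1
    simpa using e
  obtain ⟨z, hz₁, hz₂⟩ := Scheme.Pullback.exists_preimage_pullback (f := jW v) (g := g) (pt v a) x' (jW_pt v a)
  have hzmax : MaxFib (j' ≫ pY) z := by
    intro w _ hw
    by_contra hwz
    have h1 := (hsZ.2.2 w z hw hwz).1
    have hww : j' w = x' := by
      refine hx' _ ?_ (hz₂ ▸ hw.map j'.continuous)
      have h2 : g x' ⤳ g (j' w) := by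
        have h3 : g (j' w) = jW v (pullback.fst (jW v) g w) := by
          rw [← Scheme.Hom.comp_apply, ← Scheme.Hom.comp_apply, pullback.condition]
        obtain ⟨b, y, hy⟩ := exists_incl v (pullback.fst (jW v) g w)
        have hb : b.1.1 = g x' := by
          by_contra hb
          exact b.1.2 (pointCycle_ne _ hb)
        rw [h3, ← hy, ← Scheme.Hom.comp_apply, incl_jW, ← hb, ← compι_generic v b]
        exact (genericPoint_specializes y).map (compι v b).continuous
      have h4 : g (j' w) ⤳ g x' := (hz₂ ▸ hw.map j'.continuous : j' w ⤳ x').map g.continuous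
      exact (h4.antisymm h2).eq
    rw [heq, heq, hww] at h1
    have : j' z = x' := hz₂
    rw [this] at h1
    omega
  have h5 := hshift z hzmax
  rw [heq] at h5
  change δY (j' z) = 0 + (r : ℤ) at h5
  rw [show j' z = x' from hz₂] at h5
  omega

/-- Rational injectivity of base change of cycles along a field extension. -/
def Inj (ι : k →+* K) : Prop :=
  ∀ (X Y : Scheme.{u}) (pX : X ⟶ Spec (CommRingCat.of k)) [LocallyOfFiniteType pX] [QuasiCompact pX]
    (pY : Y ⟶ Spec (CommRingCat.of K)) (g : Y ⟶ X), IsPullback g pY pX (Spec.map (CommRingCat.ofHom ι)) →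
    ∀ (δX : X → ℤ) (δY : Y → ℤ), Cyc.DeltaCompat pX δX (fun _ => 0) → Cyc.DeltaCompat pY δY (fun _ => 0) →
    ∀ (n : ℤ) (α : AlgebraicCycle X ℤ), α ∈ Cyc.Zk X δX n → ∀ α' : AlgebraicCycle Y ℤ,
      ⇑α' = Cyc.pullFun g δY δX 0 ⇑α → Cyc.RatEquivZero δY n α' →
      ∃ m : ℤ, m ≠ 0 ∧ Cyc.RatEquivZero δX n (m • α)

/-- Injectivity is stable under composition. -/
theorem Inj.comp {L : Type u} [Field L] {ι : k →+* L} {ι' : L →+* K} (h : Inj ι) (h' : Inj ι') :
    Inj (ι'.comp ι) := by
  intro X Y pX _ _ pY g sq δX δY hX hY n α hα α' hα' h0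
  let s₁ := Spec.map (CommRingCat.ofHom ι)
  let s₂ := Spec.map (CommRingCat.ofHom ι')
  have hs : s₂ ≫ s₁ = Spec.map (CommRingCat.ofHom (ι'.comp ι)) := by
    rw [← Spec.map_comp]
    rfl
  let X₁ := pullback pX s₁
  let p₁ : X₁ ⟶ Spec (CommRingCat.of L) := pullback.snd pX s₁
  let g₁ : X₁ ⟶ X := pullback.fst pX s₁
  let g₂ : Y ⟶ X₁ := pullback.lift g (pY ≫ s₂) (by rw [Category.assoc, hs]; exact sq.w)
  have sq₁ : IsPullback g₁ p₁ pX s₁ := IsPullback.of_hasPullback _ _
  have sq₂ : IsPullback g₂ pY p₁ s₂ := by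
    refine IsPullback.of_right (t := sq₁) ?_ (pullback.lift_snd _ _ _)
    rw [show g₂ ≫ g₁ = g from pullback.lift_fst _ _ _, hs]
    exact sq
  haveI : LocallyOfFiniteType p₁ := lft_pY sq₁
  haveI : QuasiCompact p₁ := MorphismProperty.pullback_snd _ _ inferInstance
  obtain ⟨δ₁, hδ₁⟩ := exists_delta p₁ (fun _ : Spec (CommRingCat.of L) => (0 : ℤ))
  have hsX := setup_X hX
  have hs₁ := setup_X hδ₁
  haveI := hsX.1
  haveI := hs₁.1
  haveI := flat_g sq₁
  haveI := flat_g sq₂
  have sh₁ := isShift_fieldExt sq₁ hX hδ₁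
  have sh₂ := isShift_fieldExt sq₂ hδ₁ hY
  have hsY := setup_Y sq₂ hY
  let α₁ := pullHom sh₁ hs₁.2.2 α
  have hα₁ : α₁ ∈ Cyc.Zk X₁ δ₁ n := by
    have := Bivar.pullFun_mem_Zk g₁ δ₁ δX 0 n hα α₁ rfl
    rwa [add_zero] at this
  have hc : ⇑α' = Cyc.pullFun g₂ δY δ₁ 0 ⇑α₁ := by
    rw [hα', ← show g₂ ≫ g₁ = g from pullback.lift_fst _ _ _]
    exact pullFun_comp (c := 0) (c' := 0) sh₁ sh₂ hs₁.2.2 hsY.2.2 ⇑α
  obtain ⟨m, hm, h1⟩ := h' X₁ Y p₁ pY g₂ sq₂ δ₁ δY hδ₁ hY n α₁ hα₁ α' hc h0
  have hmα : m • α ∈ Cyc.Zk X δX n := (ChowOps.zk X δX n).zsmul_mem hα m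
  have e : m • α₁ = pullHom sh₁ hs₁.2.2 (m • α) := (map_zsmul (pullHom sh₁ hs₁.2.2) m α).symm
  rw [e] at h1
  obtain ⟨m', hm', h2⟩ := h X X₁ pX p₁ g₁ sq₁ δX δ₁ hX hδ₁ n (m • α) hmα _ rfl h1
  exact ⟨m' * m, mul_ne_zero hm' hm, by rwa [mul_smul]⟩

/-- Injectivity for finite extensions. -/
theorem inj_of_finite (ι : k →+* K) (hfin : ι.Finite) : Inj ι := by
  intro X Y pX _ _ pY g sq δX δY hX hY n α hα α' hα' h0
  letI := ι.toAlgebra
  haveI : Module.Finite k K := hfin
  let sp := Spec.map (CommRingCat.ofHom ι)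
  haveI : IsFinite sp := (IsFinite.SpecMap_iff _).2 hfin
  haveI : Flat sp := flat_spec sp
  haveI : IsFinite g := MorphismProperty.of_isPullback sq.flip (inferInstance : IsFinite sp)
  haveI := flat_g sq
  have hsX := setup_X hX
  have hsY := setup_Y sq hY
  have hg : Cyc.DeltaCompat g δY δX := by
    refine deltaCompat_of_comp g pX ?_ hX
    rw [sq.w]
    refine Bivar.deltaCompat_comp pY sp _ _ _ hY fun s => ⟨0, ?_, by simp⟩
    rw [Nat.cast_zero]
    exact InsepLenLib.resTrdegAt_eq_zero_of_integral sp s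
  have hd : ∀ x : X, g.finrank x = Module.finrank k K := fun x => by
    rw [Scheme.Hom.finrank_of_isPullback pY g sp pX sq.flip x]
    refine (Scheme.Hom.finrank_SpecMap_algebraMap k K (pX x)).trans ?_
    rw [Module.rankAtStalk_eq_finrank_of_free]
    rfl
  obtain ⟨-, H⟩ := S1868.result Y X δY δX hsY hsX g (Module.finrank k K) hd hg n
  have h1 := ratEquivZero_map g hsY hsX hg h0
  rw [H α hα α' hα'] at h1
  refine ⟨(Module.finrank k K : ℤ), by exact_mod_cast (Module.finrank_pos (R := k) (M := K)).ne', ?_⟩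
  rwa [natCast_zsmul]

end Groth.Agent.ChowFldLib
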