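import Groth.Agent.ChowFldLib.Limit
import Mathlib.FieldTheory.IntermediateField.Adjoin.Algebra

/-!
# Reduction of injectivity of base change of cycles to simple extensions
-/

set_option autoImplicit false
set_option backward.isDefEq.respectTransparency false
set_option linter.style.haveILetI false
set_option linter.unusedSectionVars false

universe u

open CategoryTheory CategoryTheory.Limits AlgebraicGeometry TopologicalSpace IntermediateField

noncomputable section

namespace Groth.Agent.ChowFldLib

open CycLib BivarLib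

variable (k K : Type u) [Field k] [Field K] [Algebra k K]

abbrev FgFld : Type u := {F : IntermediateField k K // F.FG}

instance : IsDirected (FgFld k K) (fun a b => a ≤ b) :=
  ⟨fun S T => ⟨⟨S.1 ⊔ T.1, fg_sup S.2 T.2⟩, le_sup_left (b := T.1), le_sup_right (a := S.1)⟩⟩

instance : Nonempty (FgFld k K) := ⟨⟨⊥, fg_bot⟩⟩

def fldSys : FgFld k K ⥤ CommRingCat.{u} where
  obj S := CommRingCat.of S.1
  map h := CommRingCat.ofHom (IntermediateField.inclusion h.le).toRingHom
  map_id _ := by ext x; rfl
  map_comp _ _ := by ext x; rfl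

def fldCocone : Cocone (fldSys k K) where
  pt := CommRingCat.of K
  ι :=
    { app := fun S => CommRingCat.ofHom S.1.val.toRingHom
      naturality := fun _ _ _ => by ext x; rfl }

theorem nonempty_isColimit_fldCocone : Nonempty (IsColimit (fldCocone k K)) :=
  AffLim.nonempty_isColimit_of_elementwise (fldCocone k K)
    (show ∀ x : K, ∃ (S : FgFld k K) (y : S.1), (y : K) = x from
      fun x => ⟨⟨k⟮x⟯, by simpa using fg_adjoin_finset {x}⟩, ⟨x, mem_adjoin_simple_self k _⟩, rfl⟩)
    (fun S x y e => ⟨S, le_rfl, by rw [show x = y from Subtype.ext e]⟩)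

variable {k K}

/-- It suffices to treat finitely generated extensions. -/
theorem inj_of_fg (h : ∀ F : IntermediateField k K, F.FG → Inj (algebraMap k F)) : Inj (algebraMap k K) := by
  intro X Y pX _ _ pY g sq δX δY hX hY n α hα α' hα' h0
  let b : ∀ S : FgFld k K, Spec ((fldSys k K).obj S) ⟶ Spec (CommRingCat.of k) :=
    fun S => Spec.map (CommRingCat.ofHom (algebraMap k S.1))
  choose δ hδ using fun S : FgFld k K => exists_delta (pullback.snd pX (b S)) (fun _ => (0 : ℤ))
  have hsqS := fun S : FgFld k K => IsPullback.of_hasPullback pX (b S)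
  obtain ⟨i, β, hβ, hβ0⟩ := exists_stage (fldSys k K) (fldCocone k K) (nonempty_isColimit_fldCocone k K).some b
    (fun i j f => (Spec.map_comp _ _).symm.trans (congrArg Spec.map (by ext x; rfl)))
    (Spec.map (CommRingCat.ofHom (algebraMap k K)))
    (fun i => (Spec.map_comp _ _).symm.trans (congrArg Spec.map (by ext x; rfl)))
    sq (fun i j f => flat_spec (k := i.1) _) (fun i => flat_spec (k := i.1) _) (fun i => flat_spec _) δ
    (setup_X hX) (fun i => setup_Y (hsqS i) (hδ i)) (setup_Y sq hY)
    (fun i => isShift_fieldExt (hsqS i) hX (hδ i))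
    (fun i j f φ hφ _ => by
      haveI := lft_pY (hsqS i)
      exact isShift_fieldExt (k := i.1) (K := j.1) hφ (hδ i) (hδ j))
    (fun i π hπ _ => by
      haveI := lft_pY (hsqS i)
      exact isShift_fieldExt (k := i.1) hπ (hδ i) hY)
    n α hα α' hα' h0
  haveI := lft_pY (hsqS i)
  exact h i.1 i.2 X _ pX _ _ (hsqS i) δX (δ i) hX (hδ i) n α hα β hβ hβ0

/-- It suffices to treat simple extensions. -/
theorem inj_of_simple (h : ∀ (E : IntermediateField k K) (x : K), Inj (algebraMap E E⟮x⟯))
    (F : IntermediateField k K) (hF : F.FG) : Inj (algebraMap k F) := by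
  refine induction_on_adjoin_fg (fun F : IntermediateField k K => Inj (algebraMap k F)) ?_ ?_ F hF
  · exact inj_of_finite _ (RingHom.Finite.of_surjective _ fun x => by
      obtain ⟨y, hy⟩ := mem_bot.1 x.2
      exact ⟨y, Subtype.ext hy⟩)
  · intro E x hE
    exact Inj.comp hE (h E x)

end Groth.Agent.ChowFldLib
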