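import Groth.Agent.ChowFldLib.Curve
import Groth.Agent.ChowFldLib.Reduce
import Mathlib.FieldTheory.AlgebraicClosure
import Mathlib.FieldTheory.IsAlgClosed.AlgebraicClosure

/-!
# Base change of cycles from an algebraically closed field to any extension is injective
-/

set_option autoImplicit false
set_option backward.isDefEq.respectTransparency false
set_option linter.style.haveILetI false
set_option linter.unusedSectionVars false

universe u

open CategoryTheory CategoryTheory.Limits AlgebraicGeometry TopologicalSpace IntermediateField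

noncomputable section

namespace Groth.Agent.ChowFldLib

open CycLib BivarLib

section General

variable {k K L : Type u} [Field k] [Field K] [Field L]

/-- The first of two composable injective base changes is injective. -/
theorem InjOne.of_comp {ι : k →+* L} {ι' : L →+* K} (h : InjOne (ι'.comp ι)) : InjOne ι := by
  intro X X₁ pX _ _ p₁ g₁ sq₁ δX δ₁ hX hδ₁ n α hα α₁ hα₁ h0
  let s₁ := Spec.map (CommRingCat.ofHom ι)
  let s₂ := Spec.map (CommRingCat.ofHom ι')
  have hs : s₂ ≫ s₁ = Spec.map (CommRingCat.ofHom (ι'.comp ι)) := by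
    rw [← Spec.map_comp]
    rfl
  haveI : LocallyOfFiniteType p₁ := lft_pY sq₁
  let Y := pullback p₁ s₂
  let pY : Y ⟶ Spec (CommRingCat.of K) := pullback.snd p₁ s₂
  let g₂ : Y ⟶ X₁ := pullback.fst p₁ s₂
  have sq₂ : IsPullback g₂ pY p₁ s₂ := IsPullback.of_hasPullback _ _
  obtain ⟨δY, hY⟩ := exists_delta pY (fun _ : Spec (CommRingCat.of K) => (0 : ℤ))
  have sq : IsPullback (g₂ ≫ g₁) pY pX (Spec.map (CommRingCat.ofHom (ι'.comp ι))) :=
    hs ▸ sq₂.paste_horiz sq₁
  have hs₁ := setup_X hδ₁
  haveI := (setup_X hX).1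
  haveI := hs₁.1
  haveI := flat_g sq₁
  haveI := flat_g sq₂
  have sh₁ := isShift_fieldExt sq₁ hX hδ₁
  have sh₂ := isShift_fieldExt sq₂ hδ₁ hY
  have hsY := setup_Y sq₂ hY
  let α' := pullHom sh₂ hsY.2.2 α₁
  have h1 : Cyc.RatEquivZero δY n α' := by
    have := ratEquivZero_pull sh₂ hsY.2.2 hs₁.2.2 h0 α' rfl
    rwa [add_zero] at this
  have hc : ⇑α' = Cyc.pullFun (g₂ ≫ g₁) δY δX 0 ⇑α := by
    show Cyc.pullFun g₂ δY δ₁ 0 ⇑α₁ = _
    rw [hα₁]
    exact (pullFun_comp (c := 0) (c' := 0) sh₁ sh₂ hs₁.2.2 hsY.2.2 ⇑α).symm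
  exact h X Y pX pY (g₂ ≫ g₁) sq δX δY hX hY n α hα α' hc h1

variable [Algebra k K]

/-- It suffices to treat finitely generated extensions. -/
theorem injOne_of_fg (h : ∀ F : IntermediateField k K, F.FG → InjOne (algebraMap k F)) :
    InjOne (algebraMap k K) := by
  intro X Y pX _ _ pY g sq δX δY hX hY n α hα α' hα' h0
  let b : ∀ S : FgFld k K, Spec ((fldSys k K).obj S) ⟶ Spec (CommRingCat.of k) :=
    fun S => Spec.map (CommRingCat.ofHom (algebraMap k S.1))
  choose δ hδ using fun S : FgFld k K => exists_delta (pullback.snd pX (b S)) (fun _ => (0 : ℤ))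
  have hsqS := fun S : FgFld k K => IsPullback.of_hasPullback pX (b S)
  obtain ⟨i, β, hβ, hβ0⟩ := exists_stage (fldSys k K) (fldCocone k K) (nonempty_isColimit_fldCocone k K).some b
    (fun i j f => (Spec.map_comp _ _).symm.trans (congrArg Spec.map (by ext x; rfl)))
    (Spec.map (CommRingCat.ofHom (algebraMap k K)))
    (fun i => (Spec.map_comp _ _).symm.trans (congrArg Spec.map (by ext x; rfl)))
    sq (fun i j f => flat_spec (k := i.1) _) (fun i => flat_spec (k := i.1) _) (fun i => flat_spec _) δ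
    (setup_X hX) (fun i => setup_Y (hsqS i) (hδ i)) (setup_Y sq hY)
    (fun i => isShift_fieldExt (hsqS i) hX (hδ i))
    (fun i j f φ hφ _ => by
      haveI := lft_pY (hsqS i)
      exact isShift_fieldExt (k := i.1) (K := j.1) hφ (hδ i) (hδ j))
    (fun i π hπ _ => by
      haveI := lft_pY (hsqS i)
      exact isShift_fieldExt (k := i.1) hπ (hδ i) hY)
    n α hα α' hα' h0
  haveI := lft_pY (hsqS i)
  exact h i.1 i.2 X _ pX _ _ (hsqS i) δX (δ i) hX (hδ i) n α hα β hβ hβ0

end General

variable (E E₁ : Type u) [Field E] [IsAlgClosed E] [Field E₁] [Algebra E E₁]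

/-- Injectivity to an extension algebraic over a simple extension. -/
theorem injOne_of_algebraic_simple (x : E₁) [Algebra.IsAlgebraic E⟮x⟯ E₁] : InjOne (algebraMap E E₁) := by
  by_cases hx : Transcendental E x
  · refine injOne_of_fg fun F hF => ?_
    let F' := F ⊔ E⟮x⟯
    have hxF : x ∈ F' := (le_sup_right : E⟮x⟯ ≤ F') (mem_adjoin_simple_self E x)
    let x' : F' := ⟨x, hxF⟩
    have hx' : Transcendental E x' := fun h => hx (h.algHom F'.val)
    haveI : Algebra.EssFiniteType E F' :=
      essFiniteType_iff.2 (fg_sup hF (fg_adjoin_of_finite (Set.finite_singleton x)))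
    haveI : Algebra.IsAlgebraic (adjoin E ({x'} : Set F')) F' :=
      Algebra.IsAlgebraic.of_ringHom_of_comp_eq (S := E⟮x⟯) (B := E₁)
        ((liftAlgEquiv (adjoin E ({x'} : Set F'))).trans (equivOfEq (lift_adjoin_simple E F' x'))).toRingEquiv.toRingHom
        F'.val.toRingHom (AlgEquiv.surjective _) Subtype.val_injective rfl
    haveI : Algebra.EssFiniteType (adjoin E ({x'} : Set F')) F' := Algebra.EssFiniteType.of_comp E _ _
    haveI : FiniteDimensional (adjoin E ({x'} : Set F')) F' := Algebra.finite_of_essFiniteType_of_isAlgebraic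
    exact InjOne.of_comp (ι' := (IntermediateField.inclusion (le_sup_left : F ≤ F')).toRingHom)
      (injOne_functionField E F' x' hx')
  · haveI : Algebra.IsAlgebraic E E⟮x⟯ :=
      (isAlgebraic_adjoin_iff_isAlgebraic E E₁).2 fun y hy => (Set.mem_singleton_iff.1 hy) ▸ not_not.1 hx
    haveI : Algebra.IsAlgebraic E E₁ := Algebra.IsAlgebraic.trans E E⟮x⟯ E₁
    exact injOne_of_bijective _ IsAlgClosed.algebraMap_bijective_of_isIntegral

omit [IsAlgClosed E] in
variable {E} in
/-- Algebraically closed subfields of an algebraically closed field with injective base change. -/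
theorem exists_algClosed_sub [IsAlgClosed E] (Ω : Type u) [Field Ω] [IsAlgClosed Ω] [Algebra E Ω] (S : Finset Ω) :
    ∃ M : IntermediateField E Ω, IsAlgClosed M ∧ (S : Set Ω) ⊆ M ∧ InjOne (algebraMap E M) := by
  classical
  induction S using Finset.induction with
  | empty =>
    exact ⟨⊥, IsAlgClosed.of_ringEquiv E _ (IntermediateField.botEquiv E Ω).symm.toRingEquiv, by simp,
      injOne_of_bijective _ ⟨RingHom.injective _, fun y => by
        obtain ⟨c, hc⟩ := mem_bot.1 y.2
        exact ⟨c, Subtype.ext hc⟩⟩⟩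
  | insert x S _ ih =>
    obtain ⟨M, hM, hS, hinj⟩ := ih
    haveI := hM
    let C := algebraicClosure M⟮x⟯ Ω
    haveI : IsAlgClosed C := IsAlgClosure.isAlgClosed M⟮x⟯
    let M' : IntermediateField M Ω := C.restrictScalars M
    have hxM : x ∈ M' := C.algebraMap_mem ⟨x, mem_adjoin_simple_self M x⟩
    let x' : M' := ⟨x, hxM⟩
    haveI : Algebra.IsAlgebraic (adjoin M ({x'} : Set M')) M' :=
      Algebra.IsAlgebraic.of_ringHom_of_comp_eq (S := M⟮x⟯) (B := C)
        ((liftAlgEquiv (adjoin M ({x'} : Set M'))).trans (equivOfEq (lift_adjoin_simple M M' x'))).toRingEquiv.toRingHom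
        (RingHom.id C) (AlgEquiv.surjective _) Function.injective_id rfl
    refine ⟨M'.restrictScalars E, ‹IsAlgClosed C›, ?_, ?_⟩
    · rw [Finset.coe_insert, Set.insert_subset_iff]
      exact ⟨hxM, fun y hy => M'.algebraMap_mem ⟨y, hS hy⟩⟩
    · exact hinj.comp (injOne_of_algebraic_simple M M' x')

/-- Base change of cycles from an algebraically closed field to any extension is injective. -/
theorem injOne (k K : Type u) [Field k] [IsAlgClosed k] [Field K] [Algebra k K] : InjOne (algebraMap k K) := by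
  let Ω := AlgebraicClosure K
  refine InjOne.of_comp (ι' := algebraMap K Ω) ?_
  rw [← IsScalarTower.algebraMap_eq]
  refine injOne_of_fg fun F hF => ?_
  obtain ⟨S, rfl⟩ := hF
  obtain ⟨M, hM, hS, hinj⟩ := exists_algClosed_sub (E := k) Ω S
  exact InjOne.of_comp (ι' := (IntermediateField.inclusion (adjoin_le_iff.2 hS)).toRingHom) hinj

end Groth.Agent.ChowFldLib
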