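import Groth.Agent.ChowFldLib.Trans
import Groth.Agent.FinIntClosure.Basic
import Groth.Agent.DomDVR.FiniteExt

/-!
# Injectivity of base change of cycles from an algebraically closed field to a function field of one variable
-/

set_option autoImplicit false
set_option backward.isDefEq.respectTransparency false
set_option linter.style.haveILetI false
set_option linter.unusedSectionVars false

universe u

open CategoryTheory CategoryTheory.Limits AlgebraicGeometry TopologicalSpace

noncomputable section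

namespace Groth.Agent.ChowFldLib

open CycLib BivarLib DimFormulaLib

variable {k K : Type u} [Field k] [Field K]

/-- Injectivity of base change of cycles along a field extension. -/
def InjOne (ι : k →+* K) : Prop :=
  ∀ (X Y : Scheme.{u}) (pX : X ⟶ Spec (CommRingCat.of k)) [LocallyOfFiniteType pX] [QuasiCompact pX]
    (pY : Y ⟶ Spec (CommRingCat.of K)) (g : Y ⟶ X), IsPullback g pY pX (Spec.map (CommRingCat.ofHom ι)) →
    ∀ (δX : X → ℤ) (δY : Y → ℤ), Cyc.DeltaCompat pX δX (fun _ => 0) → Cyc.DeltaCompat pY δY (fun _ => 0) →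
    ∀ (n : ℤ) (α : AlgebraicCycle X ℤ), α ∈ Cyc.Zk X δX n → ∀ α' : AlgebraicCycle Y ℤ,
      ⇑α' = Cyc.pullFun g δY δX 0 ⇑α → Cyc.RatEquivZero δY n α' → Cyc.RatEquivZero δX n α

/-- Injectivity is stable under composition. -/
theorem InjOne.comp {L : Type u} [Field L] {ι : k →+* L} {ι' : L →+* K} (h : InjOne ι) (h' : InjOne ι') :
    InjOne (ι'.comp ι) := by
  intro X Y pX _ _ pY g sq δX δY hX hY n α hα α' hα' h0
  let s₁ := Spec.map (CommRingCat.ofHom ι)
  let s₂ := Spec.map (CommRingCat.ofHom ι')
  have hs : s₂ ≫ s₁ = Spec.map (CommRingCat.ofHom (ι'.comp ι)) := by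
    rw [← Spec.map_comp]
    rfl
  let X₁ := pullback pX s₁
  let p₁ : X₁ ⟶ Spec (CommRingCat.of L) := pullback.snd pX s₁
  let g₁ : X₁ ⟶ X := pullback.fst pX s₁
  let g₂ : Y ⟶ X₁ := pullback.lift g (pY ≫ s₂) (by rw [Category.assoc, hs]; exact sq.w)
  have sq₁ : IsPullback g₁ p₁ pX s₁ := IsPullback.of_hasPullback _ _
  have sq₂ : IsPullback g₂ pY p₁ s₂ := by
    refine IsPullback.of_right (t := sq₁) ?_ (pullback.lift_snd _ _ _)
    rw [show g₂ ≫ g₁ = g from pullback.lift_fst _ _ _, hs]
    exact sq
  haveI : LocallyOfFiniteType p₁ := lft_pY sq₁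
  haveI : QuasiCompact p₁ := MorphismProperty.pullback_snd _ _ inferInstance
  obtain ⟨δ₁, hδ₁⟩ := exists_delta p₁ (fun _ : Spec (CommRingCat.of L) => (0 : ℤ))
  have hsX := setup_X hX
  have hs₁ := setup_X hδ₁
  haveI := hsX.1
  haveI := hs₁.1
  haveI := flat_g sq₁
  haveI := flat_g sq₂
  have sh₁ := isShift_fieldExt sq₁ hX hδ₁
  have sh₂ := isShift_fieldExt sq₂ hδ₁ hY
  have hsY := setup_Y sq₂ hY
  let α₁ := pullHom sh₁ hs₁.2.2 α
  have hα₁ : α₁ ∈ Cyc.Zk X₁ δ₁ n := by
    have := Bivar.pullFun_mem_Zk g₁ δ₁ δX 0 n hα α₁ rfl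
    rwa [add_zero] at this
  have hc : ⇑α' = Cyc.pullFun g₂ δY δ₁ 0 ⇑α₁ := by
    rw [hα', ← show g₂ ≫ g₁ = g from pullback.lift_fst _ _ _]
    exact pullFun_comp (c := 0) (c' := 0) sh₁ sh₂ hs₁.2.2 hsY.2.2 ⇑α
  exact h X X₁ pX p₁ g₁ sq₁ δX δ₁ hX hδ₁ n α hα α₁ rfl (h' X₁ Y p₁ pY g₂ sq₂ δ₁ δY hδ₁ hY n α₁ hα₁ α' hc h0)

/-- Isomorphisms of fields are injective. -/
theorem injOne_of_bijective (ι : k →+* K) (hι : Function.Bijective ι) : InjOne ι := by
  intro X Y pX _ _ pY g sq δX δY hX hY n α hα α' hα' h0
  letI := ι.toAlgebra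
  have hfin : ι.Finite := RingHom.Finite.of_surjective _ hι.2
  haveI : Module.Finite k K := hfin
  let sp := Spec.map (CommRingCat.ofHom ι)
  haveI : IsFinite sp := (IsFinite.SpecMap_iff _).2 hfin
  haveI : Flat sp := flat_spec sp
  haveI : IsFinite g := MorphismProperty.of_isPullback sq.flip (inferInstance : IsFinite sp)
  haveI := flat_g sq
  have hsX := setup_X hX
  have hsY := setup_Y sq hY
  have hg : Cyc.DeltaCompat g δY δX := by
    refine deltaCompat_of_comp g pX ?_ hX
    rw [sq.w]
    refine Bivar.deltaCompat_comp pY sp _ _ _ hY fun s => ⟨0, ?_, by simp⟩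
    rw [Nat.cast_zero]
    exact InsepLenLib.resTrdegAt_eq_zero_of_integral sp s
  have h1f : Module.finrank k K = 1 := finrank_eq_one (1 : K) one_ne_zero fun w =>
    (hι.2 w).elim fun c hc => ⟨c, by rw [Algebra.smul_def, mul_one]; exact hc⟩
  have hd : ∀ x : X, g.finrank x = 1 := fun x => by
    rw [Scheme.Hom.finrank_of_isPullback pY g sp pX sq.flip x]
    refine (Scheme.Hom.finrank_SpecMap_algebraMap k K (pX x)).trans ?_
    rw [Module.rankAtStalk_eq_finrank_of_free]
    exact h1f
  obtain ⟨-, H⟩ := S1868.result Y X δY δX hsY hsX g 1 hd hg n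
  have h1 := ratEquivZero_map g hsY hsX hg h0
  rwa [H α hα α' hα', one_smul] at h1

section Model

variable (A : Type u) [CommRing A] [IsDomain A]

/-- Nonzero elements, ordered by divisibility. -/
def DenA : Type u := {g : A // g ≠ 0}

instance : Preorder (DenA A) where
  le a b := a.1 ∣ b.1
  le_refl a := dvd_refl a.1
  le_trans _ _ _ h h' := dvd_trans h h'

instance : IsDirected (DenA A) (fun a b => a ≤ b) :=
  ⟨fun a b => ⟨⟨a.1 * b.1, mul_ne_zero a.2 b.2⟩, dvd_mul_right a.1 b.1, dvd_mul_left b.1 a.1⟩⟩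

instance : Nonempty (DenA A) := ⟨⟨1, one_ne_zero⟩⟩

variable {A}

def denMapA {a b : DenA A} (h : a ≤ b) : Localization.Away a.1 →+* Localization.Away b.1 :=
  IsLocalization.Away.lift a.1 (g := algebraMap A (Localization.Away b.1))
    (isUnit_of_dvd_unit (map_dvd _ h) (IsLocalization.Away.algebraMap_isUnit b.1))

theorem denMapA_algebraMap {a b : DenA A} (h : a ≤ b) (p : A) :
    denMapA h (algebraMap A _ p) = algebraMap A _ p :=
  IsLocalization.Away.lift_eq a.1 _ p

variable (A) in
abbrev denSysA : DenA A ⥤ CommRingCat.{u} where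
  obj a := CommRingCat.of (Localization.Away a.1)
  map h := CommRingCat.ofHom (denMapA h.le)
  map_id a := CommRingCat.hom_ext (IsLocalization.ringHom_ext (Submonoid.powers a.1)
    (RingHom.ext fun p => denMapA_algebraMap (le_refl a) p))
  map_comp {a b c} f g := CommRingCat.hom_ext (IsLocalization.ringHom_ext (Submonoid.powers a.1)
    (RingHom.ext fun p => (denMapA_algebraMap (f.le.trans g.le) p).trans
      (((congrArg (denMapA g.le) (denMapA_algebraMap f.le p)).trans (denMapA_algebraMap g.le p))).symm))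

theorem isOpenImmersion_denMapA {a b : DenA A} (f : a ⟶ b) : IsOpenImmersion (Spec.map ((denSysA A).map f)) := by
  haveI : IsOpenImmersion (Spec.map (CommRingCat.ofHom (algebraMap A (Localization.Away a.1)))) :=
    IsOpenImmersion.of_isLocalization a.1
  haveI : IsOpenImmersion (Spec.map ((denSysA A).map f) ≫
      Spec.map (CommRingCat.ofHom (algebraMap A (Localization.Away a.1)))) := by
    rw [← Spec.map_comp]
    have h : CommRingCat.ofHom (algebraMap A (Localization.Away a.1)) ≫ (denSysA A).map f =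
        CommRingCat.ofHom (algebraMap A (Localization.Away b.1)) :=
      CommRingCat.hom_ext (RingHom.ext fun p => denMapA_algebraMap f.le p)
    rw [h]
    exact IsOpenImmersion.of_isLocalization b.1
  exact IsOpenImmersion.of_comp _ (Spec.map (CommRingCat.ofHom (algebraMap A (Localization.Away a.1))))

variable (L : Type u) [Field L] [Algebra A L] [IsFractionRing A L]

def toFracA (a : DenA A) : Localization.Away a.1 →+* L :=
  IsLocalization.Away.lift a.1 (g := algebraMap A L)
    (IsUnit.mk0 _ ((map_ne_zero_iff _ (IsFractionRing.injective A L)).2 a.2))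

theorem toFracA_algebraMap (a : DenA A) (p : A) : toFracA L a (algebraMap A _ p) = algebraMap A L p :=
  IsLocalization.Away.lift_eq a.1 _ p

theorem toFracA_injective (a : DenA A) : Function.Injective (toFracA L a) :=
  (IsLocalization.lift_injective_iff _).2 fun x y => by
    rw [(IsLocalization.injective (Localization.Away a.1)
      (powers_le_nonZeroDivisors_of_noZeroDivisors a.2)).eq_iff, (IsFractionRing.injective A L).eq_iff]

def denCoconeA : Cocone (denSysA A) where
  pt := CommRingCat.of L
  ι :=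
    { app := fun a => (CommRingCat.ofHom (toFracA L a) :
        CommRingCat.of (Localization.Away a.1) ⟶ CommRingCat.of L)
      naturality := fun a b f => CommRingCat.hom_ext (IsLocalization.ringHom_ext (Submonoid.powers a.1)
        (RingHom.ext fun p => ((congrArg (toFracA L b) (denMapA_algebraMap f.le p)).trans
          (toFracA_algebraMap L b p)).trans (toFracA_algebraMap L a p).symm)) }

theorem nonempty_isColimit_denCoconeA : Nonempty (IsColimit (denCoconeA (A := A) L)) :=
  AffLim.nonempty_isColimit_of_elementwise (denCoconeA (A := A) L)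
    (show ∀ x : L, ∃ (a : DenA A) (y : Localization.Away a.1), toFracA L a y = x from fun x => by
      obtain ⟨p, s, hs, rfl⟩ := IsFractionRing.div_surjective (A := A) x
      let a : DenA A := ⟨s, nonZeroDivisors.ne_zero hs⟩
      refine ⟨a, IsLocalization.mk' (Localization.Away a.1) p (⟨s, Submonoid.mem_powers _⟩ : Submonoid.powers a.1), ?_⟩
      rw [eq_div_iff ((map_ne_zero_iff _ (IsFractionRing.injective A L)).2 a.2),
        ← toFracA_algebraMap L a s, ← toFracA_algebraMap L a p, ← map_mul]
      exact congrArg (toFracA L a) (IsLocalization.mk'_spec _ _ _))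
    (fun a x y e => ⟨a, le_rfl, by rw [show x = y from toFracA_injective L a e]⟩)

theorem isFractionRing_away (a : DenA A) :
    letI := (toFracA L a).toAlgebra
    IsFractionRing (Localization.Away a.1) L := by
  letI := (toFracA L a).toAlgebra
  haveI : IsScalarTower A (Localization.Away a.1) L := .of_algebraMap_eq fun p => (toFracA_algebraMap L a p).symm
  haveI : IsDomain (Localization.Away a.1) :=
    IsLocalization.isDomain_localization (powers_le_nonZeroDivisors_of_noZeroDivisors a.2)
  exact IsFractionRing.isFractionRing_of_isDomain_of_isLocalization (Submonoid.powers a.1) _ L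

theorem isPreimmersion_toFracA (a : DenA A) : IsPreimmersion (Spec.map ((denCoconeA (A := A) L).ι.app a)) := by
  letI := (toFracA L a).toAlgebra
  haveI := isFractionRing_away L a
  exact IsPreimmersion.of_isLocalization (S := L) (nonZeroDivisors (Localization.Away a.1))

theorem flat_toFracA (a : DenA A) : Flat (Spec.map ((denCoconeA (A := A) L).ι.app a)) := by
  letI := (toFracA L a).toAlgebra
  haveI := isFractionRing_away L a
  haveI : Module.Flat (Localization.Away a.1) L := IsLocalization.flat L (nonZeroDivisors (Localization.Away a.1))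
  exact Flat.SpecMap_iff.2 ((RingHom.flat_algebraMap_iff (R := Localization.Away a.1) (S := L)).2 inferInstance)

variable [Algebra k A] [Algebra.FiniteType k A] [Algebra k L] [IsScalarTower k A L]

theorem toFracA_comp (a : DenA A) :
    (toFracA L a).comp (algebraMap k (Localization.Away a.1)) = algebraMap k L := by
  ext c
  rw [RingHom.comp_apply, IsScalarTower.algebraMap_apply k A (Localization.Away a.1), toFracA_algebraMap,
    ← IsScalarTower.algebraMap_apply]

include L in
/-- An open piece of an affine model of a function field of one variable is one-dimensional. -/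
theorem hasRelDim_awayA (hL : Algebra.trdeg k L = 1) (a : DenA A) :
    Cyc.HasRelDim (Spec.map (CommRingCat.ofHom (algebraMap k (Localization.Away a.1)))) 1 := by
  let B := Localization.Away a.1
  haveI : Algebra.FinitePresentation A B := IsLocalization.Away.finitePresentation a.1
  haveI : Algebra.FiniteType k B := Algebra.FiniteType.trans (S := A) inferInstance inferInstance
  let b := Spec.map (CommRingCat.ofHom (algebraMap k B))
  haveI : LocallyOfFiniteType b := (HasRingHomProperty.Spec_iff (P := @LocallyOfFiniteType)).2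
    (RingHom.finiteType_algebraMap.2 inferInstance)
  let φ : B →+* L := toFracA L a
  letI := φ.toAlgebra
  haveI := isFractionRing_away L a
  haveI : IsPreimmersion (Spec.map (CommRingCat.ofHom φ)) :=
    IsPreimmersion.of_isLocalization (S := L) (nonZeroDivisors B)
  obtain ⟨δA, hδA⟩ := exists_delta b (fun _ : Spec (CommRingCat.of k) => (0 : ℤ))
  refine hasRelDim_of_isShift (δX := δA) (δY := fun _ => (0 : ℤ)) (fun x hx => ?_) hδA
  let η : Spec (CommRingCat.of B) := Spec.map (CommRingCat.ofHom φ) (Classical.arbitrary (PrimeSpectrum L))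
  have hbot : η.asIdeal = ⊥ := le_bot_iff.1 fun a ha => by
    have h1 : φ a ∈ (Classical.arbitrary (PrimeSpectrum L)).asIdeal := ha
    rw [(Ideal.eq_bot_or_top _).resolve_right (Classical.arbitrary (PrimeSpectrum L)).isPrime.ne_top,
      Ideal.mem_bot] at h1
    exact (map_eq_zero_iff φ (IsFractionRing.injective B L)).1 h1
  have hxη : η = x := hx η (Subsingleton.elim _ _) ((PrimeSpectrum.le_iff_specializes _ _).1 (by
    show η.asIdeal ≤ x.asIdeal
    rw [hbot]
    exact bot_le))
  obtain ⟨n, hn, e⟩ := hδA x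
  have h1 := FlatDim.resTrdegAt_comp (Spec.map (CommRingCat.ofHom φ)) b (Classical.arbitrary (PrimeSpectrum L))
  rw [FlatDim.resTrdegAt_preimmersion (Spec.map (CommRingCat.ofHom φ)), add_zero] at h1
  have h2 : Spec.map (CommRingCat.ofHom φ) ≫ b = Spec.map (CommRingCat.ofHom (algebraMap k L)) := by
    rw [← Spec.map_comp]
    exact congrArg Spec.map (CommRingCat.hom_ext (toFracA_comp L a))
  rw [FlatDim.resTrdegAt_congr h2, resTrdegAt_specMap (k := k) (L := L), hL] at h1
  have h3 : resTrdegAt b x = 1 := by rw [← hxη]; exact h1.symm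
  obtain rfl : n = 1 := by exact_mod_cast hn.symm.trans h3
  simpa using e

/-- Specialisation of cycles at a uniformised rational point. -/
theorem injOne_of_model (hL : Algebra.trdeg k L = 1)
    (hspec : ∀ a : DenA A, ∃ (b : DenA A) (_ : a ≤ b) (ρ : Localization.Away b.1 →+* k) (t : Localization.Away b.1),
      ρ.comp (algebraMap k (Localization.Away b.1)) = RingHom.id k ∧ Function.Surjective ρ ∧ t ≠ 0 ∧
        RingHom.ker ρ = Ideal.span {t}) :
    InjOne (algebraMap k L) := by
  intro X Y pX _ _ pY gY sq δX δY hX hY n α hα α' hα' h0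
  classical
  let b : ∀ a : DenA A, Spec ((denSysA A).obj a) ⟶ Spec (CommRingCat.of k) :=
    fun a => Spec.map (CommRingCat.ofHom (algebraMap k (Localization.Away a.1)))
  haveI hlft : ∀ a : DenA A, LocallyOfFiniteType (b a) := fun a => by
    haveI : Algebra.FinitePresentation A (Localization.Away a.1) := IsLocalization.Away.finitePresentation a.1
    haveI : Algebra.FiniteType k (Localization.Away a.1) := Algebra.FiniteType.trans (S := A) inferInstance inferInstance
    exact (HasRingHomProperty.Spec_iff (P := @LocallyOfFiniteType)).2 (RingHom.finiteType_algebraMap.2 inferInstance)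
  let q : ∀ a : DenA A, pullback pX (b a) ⟶ Spec (CommRingCat.of k) := fun a => pullback.fst pX (b a) ≫ pX
  choose δ₁ hδ₁ using fun a : DenA A => exists_delta (q a) (fun _ => (0 : ℤ))
  let δ : ∀ a : DenA A, ↥(pullback pX (b a)) → ℤ := fun a x => δ₁ a x - 1
  have hδ : ∀ a, Cyc.DeltaCompat (q a) (δ a) (fun _ => (-1 : ℤ)) := fun a x => by
    obtain ⟨m, hm, e⟩ := hδ₁ a x
    exact ⟨m, hm, by show δ₁ a x - 1 = _; rw [e]; ring⟩
  have hset : ∀ a, Cyc.IsSetup (pullback pX (b a)) (δ a) := fun a =>
    isSetup_of_lft (q a) (isSetup_spec_const k (-1)) (hδ a)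
  have hset₁ : ∀ a, Cyc.IsSetup (pullback pX (b a)) (δ₁ a) := fun a =>
    isSetup_of_lft (q a) (isSetup_spec_field k) (hδ₁ a)
  have hsX := setup_X hX
  haveI := hsX.1
  have hp₁ : ∀ a, Cyc.DeltaCompat (pullback.fst pX (b a)) (δ₁ a) δX := fun a =>
    deltaCompat_of_comp _ pX (hδ₁ a) hX
  have hfl : ∀ a, Flat (pullback.fst pX (b a)) := fun a => MorphismProperty.pullback_fst _ _ (flat_spec _)
  have hrd : ∀ a, Cyc.HasRelDim (pullback.fst pX (b a)) 1 := fun a =>
    hasRelDim_baseChange (IsPullback.of_hasPullback pX (b a)).flip 1 (hasRelDim_awayA L hL a)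
  have hsh₁ : ∀ a, IsShift (pullback.fst pX (b a)) (δ₁ a) δX (1 : ℕ) := fun a => by
    haveI := hfl a
    exact IsShift.of_relDim (hset₁ a) hsX 1 (hrd a) (hp₁ a)
  have hsh₀ : ∀ a, IsShift (pullback.fst pX (b a)) (δ a) δX 0 := fun a x hx => by
    have := hsh₁ a x hx
    show δ₁ a x - 1 = _
    omega
  have hsL : Cyc.DeltaCompat (Spec.map (CommRingCat.ofHom (algebraMap k L)))
      (fun _ => (0 : ℤ)) (fun _ => (-1 : ℤ)) := fun s =>
    ⟨1, (resTrdegAt_specMap (k := k) (L := L) s).trans (hL.trans Nat.cast_one.symm), by simp⟩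
  have hYk : Cyc.DeltaCompat (pY ≫ Spec.map (CommRingCat.ofHom (algebraMap k L))) δY (fun _ => (-1 : ℤ)) :=
    CycLib.deltaCompat_comp (p := Spec.map (CommRingCat.ofHom (algebraMap k L))) hsL hY
  have hbb : ∀ (i j : DenA A) (f : i ⟶ j), Spec.map ((denSysA A).map f) ≫ b i = b j := fun i j f =>
    (Spec.map_comp _ _).symm.trans (congrArg Spec.map (CommRingCat.hom_ext (RingHom.ext fun c => by
      show denMapA f.le (algebraMap k _ c) = algebraMap k _ c
      rw [IsScalarTower.algebraMap_apply k A (Localization.Away i.1), denMapA_algebraMap,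
        ← IsScalarTower.algebraMap_apply])))
  have htr : ∀ (i j : DenA A) (f : i ⟶ j) (φ : pullback pX (b j) ⟶ pullback pX (b i)),
      IsPullback φ (pullback.snd pX (b j)) (pullback.snd pX (b i)) (Spec.map ((denSysA A).map f)) →
        φ ≫ pullback.fst pX (b i) = pullback.fst pX (b j) → IsShift φ (δ j) (δ i) 0 := fun i j f φ hφ hφf => by
    haveI := isOpenImmersion_denMapA f
    haveI : IsPreimmersion φ := MorphismProperty.of_isPullback hφ.flip inferInstance
    intro x _
    rw [add_zero]
    refine delta_preimmersion φ (q i) ?_ (hδ i) x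
    show Cyc.DeltaCompat (φ ≫ pullback.fst pX (b i) ≫ pX) _ _
    rw [reassoc_of% hφf]
    exact hδ j
  have hlim := exists_stage (denSysA A) (denCoconeA (A := A) L) (nonempty_isColimit_denCoconeA L).some b hbb
    (Spec.map (CommRingCat.ofHom (algebraMap k L)))
    (fun i => (Spec.map_comp _ _).symm.trans (congrArg Spec.map (CommRingCat.hom_ext (toFracA_comp L i))))
    sq
    (fun i j f => by
      haveI := isOpenImmersion_denMapA f
      infer_instance)
    (fun i => flat_toFracA L i) (fun i => flat_spec _) δ hsX hset (setup_Y sq hY) hsh₀ htr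
    (fun i π hπ hπf => by
      haveI := isPreimmersion_toFracA L i
      haveI : IsPreimmersion π := MorphismProperty.of_isPullback hπ.flip inferInstance
      intro y _
      rw [add_zero]
      refine delta_preimmersion π (q i) ?_ (hδ i) y
      show Cyc.DeltaCompat (π ≫ pullback.fst pX (b i) ≫ pX) _ _
      rw [reassoc_of% hπf, sq.w]
      exact hYk)
    n α hα α' hα' h0
  obtain ⟨a₀, β₀, hβ₀, hβ₀0⟩ := hlim
  obtain ⟨a, hle, ρ, t, hρι, hρ, ht, hker⟩ := hspec a₀
  let fφ : a₀ ⟶ a := homOfLE hle
  let φ : pullback pX (b a) ⟶ pullback pX (b a₀) := pullback.map _ _ _ _ (𝟙 X) (Spec.map ((denSysA A).map fφ)) (𝟙 _)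
    (by simp) (by rw [Category.comp_id, hbb])
  have hφf : φ ≫ pullback.fst pX (b a₀) = pullback.fst pX (b a) :=
    (pullback.lift_fst _ _ _).trans (Category.comp_id _)
  have hφsq : IsPullback φ (pullback.snd pX (b a)) (pullback.snd pX (b a₀)) (Spec.map ((denSysA A).map fφ)) := by
    refine IsPullback.of_right (t := IsPullback.of_hasPullback pX (b a₀)) ?_ (pullback.lift_snd _ _ _)
    rw [hφf, hbb]
    exact IsPullback.of_hasPullback pX (b a)
  haveI := isOpenImmersion_denMapA fφ
  haveI : IsOpenImmersion φ := MorphismProperty.of_isPullback hφsq.flip inferInstance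
  haveI := (hset a).1
  haveI := (hset a₀).1
  haveI := hfl a₀
  let β := pullHom (htr a₀ a fφ φ hφsq hφf) (hset a).2.2 β₀
  have hβ0 : Cyc.RatEquivZero (δ a) n β := by
    have := ratEquivZero_pull (htr a₀ a fφ φ hφsq hφf) (hset a).2.2 (hset a₀).2.2 hβ₀0 β rfl
    rwa [add_zero] at this
  have hβ : ⇑β = Cyc.pullFun (pullback.fst pX (b a)) (δ a) δX 0 ⇑α := by
    show Cyc.pullFun φ (δ a) (δ a₀) 0 ⇑β₀ = _
    conv_rhs => rw [← hφf]
    rw [hβ₀]
    exact (pullFun_comp (c := 0) (c' := 0) (hsh₀ a₀) (htr a₀ a fφ φ hφsq hφf) (hset a₀).2.2 (hset a).2.2 ⇑α).symm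
  haveI : IsDomain (Localization.Away a.1) :=
    IsLocalization.isDomain_localization (powers_le_nonZeroDivisors_of_noZeroDivisors a.2)
  let Z := pullback pX (b a)
  let p := pullback.fst pX (b a)
  let f : Z ⟶ Spec (CommRingCat.of (Localization.Away a.1)) := pullback.snd pX (b a)
  haveI : Flat f := MorphismProperty.pullback_snd _ _ (flat_spec pX)
  haveI : IsClosedImmersion (Spec.map (CommRingCat.ofHom ρ)) := IsClosedImmersion.spec_of_surjective _ hρ
  let D := pullback f (Spec.map (CommRingCat.ofHom ρ))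
  let i : D ⟶ Z := pullback.fst f (Spec.map (CommRingCat.ofHom ρ))
  let pD : D ⟶ Spec (CommRingCat.of k) := pullback.snd f (Spec.map (CommRingCat.ofHom ρ))
  have hsι : Spec.map (CommRingCat.ofHom ρ) ≫ b a = Spec.map (CommRingCat.ofHom (RingHom.id k)) :=
    (Spec.map_comp _ _).symm.trans (congrArg Spec.map (CommRingCat.hom_ext hρι))
  have sqD : IsPullback (i ≫ p) pD pX (Spec.map (CommRingCat.ofHom (RingHom.id k))) := hsι ▸
    (IsPullback.of_hasPullback f (Spec.map (CommRingCat.ofHom ρ))).paste_horiz (IsPullback.of_hasPullback pX (b a))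
  haveI := lft_pY sqD
  haveI : Flat (i ≫ p) := flat_g sqD
  haveI := hfl a
  haveI := (hset₁ a).1
  let δD : D → ℤ := fun d => δ₁ a (i d)
  have hι : (RingHom.id k).Finite := RingHom.Finite.id k
  haveI : IsFinite (Spec.map (CommRingCat.ofHom (RingHom.id k))) := (IsFinite.SpecMap_iff _).2 hι
  have hDc : Cyc.DeltaCompat pD δD (fun _ => (0 : ℤ)) := by
    refine deltaCompat_of_comp (δY := fun _ => (0 : ℤ)) (δZ := fun _ => (0 : ℤ)) pD
      (Spec.map (CommRingCat.ofHom (RingHom.id k))) ?_ fun s => ⟨0, ?_, (add_zero (0 : ℤ)).symm⟩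
    · rw [← sqD.w, Category.assoc]
      exact CycLib.deltaCompat_comp (p := q a) (hδ₁ a) (deltaCompat_preimmersion i (δ₁ a))
    · rw [Nat.cast_zero]
      exact InsepLenLib.resTrdegAt_eq_zero_of_integral _ s
  have h1 : Cyc.RatEquivZero (δ₁ a) (n + 1) β := ratEquivZero_shift (fun x => by show δ₁ a x = δ₁ a x - 1 + 1; ring) hβ0
  have hpb : ∀ x, Cyc.pullFun p (δ₁ a) δX (((0 : ℕ) : ℤ) + 1) (⇑α) x = β x := fun x => by
    rw [hβ, pullFun_apply, pullFun_apply]
    by_cases h : δ₁ a x = δX (p x) + 1
    · rw [if_pos (by rw [Nat.cast_zero, zero_add]; exact h), if_pos (show δ₁ a x - 1 = δX (p x) + 0 by omega)]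
    · rw [if_neg (by rw [Nat.cast_zero, zero_add]; exact h), if_neg (show ¬δ₁ a x - 1 = δX (p x) + 0 by omega)]
  let s : (Coh.structureModule Z).presheaf.obj (Opposite.op ⊤) := Coh.toGlobal f t
  have hLi : PicF.IsInvertible (Coh.structureModule Z) := ParaFLib.isInvertible_structureModule
  have hzs : Cyc.IsZeroSchemeOf i (Coh.structureModule Z) s :=
    isZeroSchemeOf_gt (IsPullback.of_hasPullback f (Spec.map (CommRingCat.ofHom ρ))) hρ hker
  let w : (ξ : Z) → Cyc.secFibre (Coh.structureModule Z) ξ := fun ξ => mkF _ ξ (ParaFLib.oneG ξ)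
  have hw : ∀ ξ, w ξ ≠ 0 := fun ξ e => by
    have := (smul_mkF_eq_zero_iff (ParaFLib.bijective_oneG ξ) 1).1 (by rw [one_smul]; exact e)
    rw [map_one] at this
    exact one_ne_zero this
  let γ : AlgebraicCycle D ℤ := restrictCycle i (c1Cycle (hset₁ a).2.2 hLi β (Cyc.gysinChoice _ s w))
  have hγ0 : Cyc.RatEquivZero δD n γ := gysin_ratEquivZero (hset₁ a) hLi hzs hw h1 γ fun d => rfl
  have hrD : Cyc.HasRelDim (i ≫ p) 0 :=
    hasRelDim_baseChange sqD.flip 0 (hasRelDim_zero_of_finite (RingHom.id k) hι)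
  have hsD : IsShift (i ≫ p) δD δX 0 := isShift_fieldExt sqD hX hDc
  have hsetD := setup_Y sqD hDc
  haveI := hsetD.1
  let ζ := pullHom hsD hsetD.2.2 α
  have hsame := S1945.result Z X D (δ₁ a) δX (hset₁ a) hsX p 0 (hrd a) (hp₁ a) _ hLi s
    (injective_germ_gt f ht) i hzs hrD (n - 1) α (by rwa [sub_add_cancel]) w hw γ ζ
    (fun d => by rw [funext hpb]; rfl) rfl
  have hζ0 : Cyc.RatEquivZero δD n ζ := by
    have e : n - 1 + ((0 : ℕ) : ℤ) + 1 = n := by push_cast; ring
    rw [e] at hsame
    have := ratEquivZero_sub hsetD.2.2 hγ0 hsame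
    rwa [sub_sub_cancel] at this
  exact injOne_of_bijective (RingHom.id k) Function.bijective_id X D pX pD (i ≫ p) sqD δX δD hX hDc n α hα ζ rfl hζ0

end Model

/-- A maximal ideal with a principal neighbourhood. -/
theorem exists_away_specialisation (k A : Type u) [Field k] [IsAlgClosed k] [CommRing A] [IsDedekindDomain A]
    [Algebra k A] [Algebra.FiniteType k A] (hA : ¬IsField A) (a : DenA A) :
    ∃ (b : DenA A) (_ : a ≤ b) (ρ : Localization.Away b.1 →+* k) (t : Localization.Away b.1),
      ρ.comp (algebraMap k (Localization.Away b.1)) = RingHom.id k ∧ Function.Surjective ρ ∧ t ≠ 0 ∧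
        RingHom.ker ρ = Ideal.span {t} := by
  classical
  haveI : IsJacobsonRing A := isJacobsonRing_of_finiteType (A := k) (B := A)
  obtain ⟨P, hP, haP⟩ : ∃ P : Ideal A, P.IsMaximal ∧ a.1 ∉ P := by
    by_contra h
    push Not at h
    have h1 : a.1 ∈ Ideal.jacobson (⊥ : Ideal A) := Ideal.mem_sInf.2 fun {J} hJ => h J hJ.2
    rw [IsJacobsonRing.out ‹IsJacobsonRing A› (Ideal.bot_prime.isRadical), Ideal.mem_bot] at h1
    exact a.2 h1
  have hP0 : P ≠ ⊥ := Ring.ne_bot_of_isMaximal_of_not_isField hP hA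
  obtain ⟨t, htP, htP2⟩ : ∃ t, t ∈ P ∧ t ∉ P ^ 2 :=
    SetLike.exists_of_lt (Ideal.pow_right_strictAnti P hP0 hP.ne_top (show 1 < 2 by norm_num) |>.trans_eq (pow_one P))
  have ht0 : t ≠ 0 := fun e => htP2 (e ▸ zero_mem _)
  obtain ⟨J, hJ⟩ := Ideal.dvd_iff_le.2 ((Ideal.span_singleton_le_iff_mem P).2 htP)
  obtain ⟨h, hhJ, hhP⟩ : ∃ h, h ∈ J ∧ h ∉ P := by
    by_contra h'
    push Not at h'
    refine htP2 ?_
    have : t ∈ P * J := hJ ▸ Ideal.mem_span_singleton_self t
    rw [pow_two]
    exact Ideal.mul_mono le_rfl h' this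
  have hh0 : h ≠ 0 := fun e => hhP (e ▸ zero_mem _)
  let b : DenA A := ⟨a.1 * h, mul_ne_zero a.2 hh0⟩
  have hbP : b.1 ∉ P := fun hb => (hP.isPrime.mem_or_mem hb).elim haP hhP
  letI : Field (A ⧸ P) := Ideal.Quotient.field P
  haveI : Module.Finite k (A ⧸ P) := finite_of_finite_type_of_isJacobsonRing k (A ⧸ P)
  haveI : Algebra.IsIntegral k (A ⧸ P) := Algebra.IsIntegral.of_finite k _
  let e : k ≃+* A ⧸ P := RingEquiv.ofBijective (algebraMap k (A ⧸ P))
    IsAlgClosed.algebraMap_bijective_of_isIntegral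
  have hu : IsUnit ((e.symm.toRingHom.comp (Ideal.Quotient.mk P)) b.1) := IsUnit.mk0 _ fun h0 =>
    hbP (Ideal.Quotient.eq_zero_iff_mem.1 (e.symm.injective (h0.trans (map_zero _).symm)))
  let ρ : Localization.Away b.1 →+* k := IsLocalization.Away.lift b.1 (g := e.symm.toRingHom.comp (Ideal.Quotient.mk P)) hu
  have hρ : ∀ p, ρ (algebraMap A _ p) = e.symm (Ideal.Quotient.mk P p) := IsLocalization.Away.lift_eq b.1 hu
  have hρk : ∀ c, ρ (algebraMap k _ c) = c := fun c => by
    rw [IsScalarTower.algebraMap_apply k A (Localization.Away b.1), hρ]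
    exact e.symm_apply_apply c
  refine ⟨b, dvd_mul_right a.1 h, ρ, algebraMap A _ t, RingHom.ext hρk, fun c => ⟨_, hρk c⟩, ?_, ?_⟩
  · rw [map_ne_zero_iff _ (IsLocalization.injective (Localization.Away b.1)
      (powers_le_nonZeroDivisors_of_noZeroDivisors b.2))]
    exact ht0
  · refine le_antisymm (fun x hx => ?_) ((Ideal.span_singleton_le_iff_mem _).2 ?_)
    · obtain ⟨⟨p, s⟩, hxe⟩ := IsLocalization.surj (Submonoid.powers b.1) x
      have h1 : p ∈ P := by
        refine Ideal.Quotient.eq_zero_iff_mem.1 (e.symm.injective ?_)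
        rw [map_zero, ← hρ, ← hxe, map_mul, RingHom.mem_ker.1 hx, zero_mul]
      obtain ⟨c, hc⟩ : t ∣ p * h := Ideal.mem_span_singleton.1 (hJ ▸ Ideal.mul_mem_mul h1 hhJ)
      have huh : IsUnit (algebraMap A (Localization.Away b.1) h) :=
        isUnit_of_dvd_unit (map_dvd _ (dvd_mul_left h a.1)) (IsLocalization.Away.algebraMap_isUnit b.1)
      rw [Ideal.mem_span_singleton]
      refine ((IsLocalization.map_units (Localization.Away b.1) s).mul huh).dvd_mul_right.1 ?_
      rw [← mul_assoc, hxe, ← map_mul, hc, map_mul]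
      exact dvd_mul_right _ _
    · rw [RingHom.mem_ker, hρ, Ideal.Quotient.eq_zero_iff_mem.2 htP, map_zero]

/-- Injectivity from an algebraically closed field to a function field of one variable. -/
theorem injOne_functionField (k F : Type u) [Field k] [IsAlgClosed k] [Field F] [Algebra k F] (x : F)
    (hx : Transcendental k x) [FiniteDimensional (IntermediateField.adjoin k ({x} : Set F)) F] :
    InjOne (algebraMap k F) := by
  let P := Polynomial k
  let L₀ := IntermediateField.adjoin k ({x} : Set F)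
  letI : Algebra P L₀ := (Polynomial.aeval (IntermediateField.AdjoinSimple.gen k x)).toRingHom.toAlgebra
  letI : Algebra P F := (Polynomial.aeval x).toRingHom.toAlgebra
  haveI : IsScalarTower k P F := .of_algebraMap_eq fun c => (Polynomial.aeval_C x c).symm
  haveI : IsScalarTower P L₀ F := .of_algebraMap_eq fun p =>
    (Polynomial.aeval_algebraMap_apply F (IntermediateField.AdjoinSimple.gen k x) p)
  haveI : IsFractionRing P L₀ := by
    let e := RatFunc.algEquivOfTranscendental x hx
    let e' : RatFunc k ≃ₐ[P] L₀ := AlgEquiv.ofRingEquiv (f := e.toRingEquiv) fun p =>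
      RatFunc.algEquivOfTranscendental_algebraMap x hx p
    exact IsLocalization.isLocalization_of_algEquiv (nonZeroDivisors P) e'
  let A := integralClosure P F
  haveI : IsDedekindDomain A := DomDVR.isDedekindDomain_integralClosure_finite P L₀ F
  haveI : Module.Finite P A := FinIntClosure.finite_integralClosure k P L₀ F
  haveI : IsScalarTower k A F := .of_algebraMap_eq fun c => rfl
  haveI : Algebra.FiniteType k A := Algebra.FiniteType.trans (S := P) inferInstance inferInstance
  haveI : IsFractionRing A F := IsIntegralClosure.isFractionRing_of_finite_extension P L₀ F A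
  have hPF : Function.Injective (algebraMap P F) := transcendental_iff_injective.1 hx
  have hA : ¬IsField A := fun h => by
    haveI : Algebra.IsIntegral P A := Algebra.IsIntegral.of_finite P A
    have hi : Function.Injective (algebraMap P A) := fun p q e => hPF (congrArg Subtype.val e)
    exact Polynomial.not_isField k (isField_of_isIntegral_of_isField hi h)
  have htr : Algebra.trdeg k F = 1 := by
    haveI : FaithfulSMul P F := (faithfulSMul_iff_algebraMap_injective _ _).2 hPF
    haveI : Algebra.IsAlgebraic L₀ F := Algebra.IsAlgebraic.of_finite L₀ F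
    haveI : Algebra.IsAlgebraic P F := (IsFractionRing.comap_isAlgebraic_iff (A := P) (K := L₀)).2 inferInstance
    rw [← trdeg_add_eq k P (A := F), trdeg_eq_zero (R := P) (A := F), add_zero, Polynomial.trdeg_of_isDomain]
  exact injOne_of_model (A := A) F htr (exists_away_specialisation k A hA)

end Groth.Agent.ChowFldLib
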