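import Groth.Agent.ChowFldLib.Basic
import Groth.Agent.PropPi1.LimBC
import Groth.Agent.S6497

/-!
# Rational equivalence to zero descends to a stage of a limit of base changes
-/

set_option autoImplicit false
set_option backward.isDefEq.respectTransparency false
set_option linter.style.haveILetI false

universe u

open CategoryTheory CategoryTheory.Limits AlgebraicGeometry TopologicalSpace Opposite

noncomputable section

namespace Groth.Agent.ChowFldLib

open CycLib

variable {X Y S : Scheme.{u}} {pX : X ⟶ S} [QuasiCompact pX]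
  {I : Type u} [Preorder I] [IsDirected I (fun a b => a ≤ b)] [Nonempty I]
  (R : I ⥤ CommRingCat.{u}) (c : Cocone R) (hc : IsColimit c)
  (b : ∀ i, Spec (R.obj i) ⟶ S) (hb : ∀ (i j : I) (f : i ⟶ j), Spec.map (R.map f) ≫ b i = b j)
  (s : Spec c.pt ⟶ S) (hs : ∀ i, Spec.map (c.ι.app i) ≫ b i = s)
  {g : Y ⟶ X} {pY : Y ⟶ Spec c.pt} (hsq : IsPullback g pY pX s)
  (hflat : ∀ (i j : I) (f : i ⟶ j), Flat (Spec.map (R.map f))) (hflat' : ∀ i, Flat (Spec.map (c.ι.app i)))
  (hflat₀ : ∀ i, Flat (b i))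
  {δX : X → ℤ} (δ : ∀ i, ↥(pullback pX (b i)) → ℤ) {δY : Y → ℤ}
  (hsX : Cyc.IsSetup X δX) (hset : ∀ i, Cyc.IsSetup (pullback pX (b i)) (δ i)) (hsY : Cyc.IsSetup Y δY)
  (hsh₀ : ∀ i, IsShift (pullback.fst pX (b i)) (δ i) δX 0)
  (hsh : ∀ (i j : I) (f : i ⟶ j) (φ : pullback pX (b j) ⟶ pullback pX (b i)),
    IsPullback φ (pullback.snd pX (b j)) (pullback.snd pX (b i)) (Spec.map (R.map f)) →
      φ ≫ pullback.fst pX (b i) = pullback.fst pX (b j) → IsShift φ (δ j) (δ i) 0)
  (hsh' : ∀ (i : I) (π : Y ⟶ pullback pX (b i)),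
    IsPullback π pY (pullback.snd pX (b i)) (Spec.map (c.ι.app i)) →
      π ≫ pullback.fst pX (b i) = g → IsShift π δY (δ i) 0)

include hc hb hs hsq hflat hflat' hflat₀ hsX hset hsY hsh₀ hsh hsh' in
/-- A cycle whose pullback to the limit is rationally equivalent to zero has such a pullback at a stage. -/
theorem exists_stage (n : ℤ) (α : AlgebraicCycle X ℤ) (hα : α ∈ Cyc.Zk X δX n) (α' : AlgebraicCycle Y ℤ)
    (hα' : ⇑α' = Cyc.pullFun g δY δX 0 ⇑α) (h0 : Cyc.RatEquivZero δY n α') :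
    ∃ (i : I) (β : AlgebraicCycle (pullback pX (b i)) ℤ),
      ⇑β = Cyc.pullFun (pullback.fst pX (b i)) (δ i) δX 0 ⇑α ∧ Cyc.RatEquivZero (δ i) n β := by
  classical
  haveI := hsX.1
  let D : Iᵒᵖ ⥤ Scheme.{u} := R.op ⋙ Scheme.Spec
  haveI : ∀ {i j : Iᵒᵖ} (f : i ⟶ j), IsAffineHom (D.map f) := fun f => inferInstanceAs (IsAffineHom (Spec.map _))
  let t : D ⟶ (Functor.const Iᵒᵖ).obj S :=
    { app := fun i => b i.unop
      naturality := fun i j f => (hb _ _ f.unop).trans (Category.comp_id _).symm }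
  let C : Cone D := Scheme.Spec.mapCone c.op
  have hC : IsLimit C := isLimitOfPreserves Scheme.Spec hc.op
  have hgs : ∀ j, C.π.app j ≫ t.app j = s := fun j => hs j.unop
  obtain ⟨hl⟩ := PropPi1.nonempty_isLimit_bcCone t pX C s hgs hC
  let D' := PropPi1.bcDiag t pX
  let c' : Cone D' := (PropPi1.bcCone t pX C s hgs).extend hsq.isoPullback.hom
  have hl' : IsLimit c' := IsLimit.extendIso (s := PropPi1.bcCone t pX C s hgs) hsq.isoPullback.hom hl
  have hπf : ∀ j : Iᵒᵖ, c'.π.app j ≫ pullback.fst pX (b j.unop) = g := fun j => by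
    refine (Category.assoc _ _ _).trans ?_
    refine (congrArg (hsq.isoPullback.hom ≫ ·) ((pullback.lift_fst _ _ _).trans (Category.comp_id _))).trans ?_
    exact hsq.isoPullback_hom_fst
  have hπ : ∀ j : Iᵒᵖ, IsPullback (c'.π.app j) pY (pullback.snd pX (b j.unop)) (Spec.map (c.ι.app j.unop)) :=
    fun j => by
      refine IsPullback.of_right (t := IsPullback.of_hasPullback pX (b j.unop)) ?_ ?_
      · rw [hπf j, hs j.unop]
        exact hsq
      · refine (Category.assoc _ _ _).trans ?_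
        refine (congrArg (hsq.isoPullback.hom ≫ ·) (pullback.lift_snd _ _ _)).trans ?_
        exact hsq.isoPullback_hom_snd_assoc _
  have hmf : ∀ {i j : Iᵒᵖ} (f : i ⟶ j), D'.map f ≫ pullback.fst pX (b j.unop) = pullback.fst pX (b i.unop) :=
    fun f => (pullback.lift_fst _ _ _).trans (Category.comp_id _)
  have hm : ∀ {i j : Iᵒᵖ} (f : i ⟶ j), IsPullback (D'.map f) (pullback.snd pX (b i.unop))
      (pullback.snd pX (b j.unop)) (Spec.map (R.map f.unop)) := fun {i j} f => by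
    refine IsPullback.of_right (t := IsPullback.of_hasPullback pX (b j.unop)) ?_ (pullback.lift_snd _ _ _)
    rw [hmf f, hb _ _ f.unop]
    exact IsPullback.of_hasPullback pX (b i.unop)
  let i₀ : Iᵒᵖ := op (Classical.arbitrary I)
  haveI := (hset i₀.unop).1
  haveI : Flat (pullback.fst pX (b i₀.unop)) := MorphismProperty.pullback_fst _ _ (hflat₀ _)
  let α₀ := pullHom (hsh₀ i₀.unop) (hset i₀.unop).2.2 α
  have hα₀ : α₀ ∈ Cyc.Zk _ (δ i₀.unop) n := by
    have := Bivar.pullFun_mem_Zk _ (δ i₀.unop) δX 0 n hα α₀ rfl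
    rwa [add_zero] at this
  have hcomp : ⇑α' = Cyc.pullFun (c'.π.app i₀) δY (δ i₀.unop) 0 ⇑α₀ := by
    haveI : Flat (c'.π.app i₀) := MorphismProperty.of_isPullback (hπ i₀).flip (hflat' i₀.unop)
    haveI := (hset i₀.unop).1
    haveI := hsY.1
    rw [hα', ← hπf i₀]
    exact pullFun_comp (c := 0) (c' := 0) (hsh₀ i₀.unop) (hsh' _ _ (hπ i₀) (hπf i₀)) (hset _).2.2 hsY.2.2 ⇑α
  obtain ⟨j, f, β, hβ, hβ0⟩ := S6497.result I D' c' hl' (fun i j f => inferInstance)
    (fun i j f => MorphismProperty.of_isPullback (hm f).flip (hflat _ _ f.unop))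
    (fun i => QuasiCompact.compactSpace_of_compactSpace (pullback.snd pX (b i.unop)))
    (fun i => δ i.unop) δY (fun i => hset _) hsY
    (fun i j f x hx => by
      have h := hsh _ _ f.unop _ (hm f) (hmf f) x hx
      rwa [add_zero] at h)
    (fun i => MorphismProperty.of_isPullback (hπ i).flip (hflat' i.unop))
    (fun i x hx => by
      have h := hsh' _ _ (hπ i) (hπf i) x hx
      rwa [add_zero] at h)
    n i₀ α₀ hα₀ α' hcomp h0
  refine ⟨j.unop, β, ?_, hβ0⟩
  haveI : Flat (D'.map f) := MorphismProperty.of_isPullback (hm f).flip (hflat _ _ f.unop)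
  haveI := (hset i₀.unop).1
  haveI := (hset j.unop).1
  refine hβ.trans ?_
  conv_rhs => rw [← hmf f]
  exact (pullFun_comp (c := 0) (c' := 0) (hsh₀ i₀.unop) (hsh _ _ f.unop _ (hm f) (hmf f))
    (hset _).2.2 (hset _).2.2 ⇑α).symm

end Groth.Agent.ChowFldLib
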