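import Groth.Agent.ChowFldLib.Basic
import Groth.Agent.TFOneLib.Special
import Groth.Agent.S1945
import Mathlib.RingTheory.Localization.Away.AdjoinRoot
import Mathlib.RingTheory.AlgebraicIndependent.Transcendental

/-!
# Dimensions over the open pieces of the affine line
-/

set_option autoImplicit false
set_option backward.isDefEq.respectTransparency false
set_option linter.style.haveILetI false
set_option linter.unusedSectionVars false

universe u

open CategoryTheory CategoryTheory.Limits AlgebraicGeometry TopologicalSpace Polynomial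

noncomputable section

namespace Groth.Agent.ChowFldLib

open CycLib BivarLib DimFormulaLib

variable {k L : Type u} [Field k] [Field L]

/-- The residual transcendence degree of a field extension. -/
theorem resTrdegAt_specMap [Algebra k L] (s : Spec (CommRingCat.of L)) :
    resTrdegAt (Spec.map (CommRingCat.ofHom (algebraMap k L))) s = Algebra.trdeg k L := by
  letI : (Spec (CommRingCat.of L)).Over (Spec (CommRingCat.of k)) := ⟨Spec.map (CommRingCat.ofHom (algebraMap k L))⟩
  rw [show Spec.map (CommRingCat.ofHom (algebraMap k L)) =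
    (Spec (CommRingCat.of L) ↘ Spec (CommRingCat.of k)) from rfl, resTrdegAt_over]
  letI := Curv2.resAlgebra k (Spec (CommRingCat.of L)) s
  let ev : L →+* (Spec (CommRingCat.of L)).residueField s :=
    ((Spec (CommRingCat.of L)).Γevaluation s).hom.comp (Scheme.ΓSpecIso (CommRingCat.of L)).inv.hom
  have hev : Function.Bijective ev := ⟨ev.injective, evaluation_surjective L s⟩
  let φ : L →ₐ[k] (Spec (CommRingCat.of L)).residueField s :=
    { ev with
      commutes' := fun a => congrArg ((Spec (CommRingCat.of L)).Γevaluation s)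
        (congr($(Scheme.ΓSpecIso_inv_naturality (CommRingCat.ofHom (algebraMap k L))).hom a)) }
  exact (AlgEquiv.trdeg_eq (AlgEquiv.ofBijective φ hev)).symm

/-- A fraction field of a polynomial ring has transcendence degree one. -/
theorem trdeg_fractionRing [Algebra k L] [Algebra k[X] L] [IsScalarTower k k[X] L] [IsFractionRing k[X] L] :
    Algebra.trdeg k L = 1 := by
  haveI : Algebra.IsAlgebraic k[X] L := IsLocalization.isAlgebraic L (nonZeroDivisors k[X])
  haveI : Module.IsTorsionFree k k[X] := inferInstance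
  haveI : FaithfulSMul k[X] L := (faithfulSMul_iff_algebraMap_injective _ _).2 (IsFractionRing.injective k[X] L)
  rw [← trdeg_add_eq k k[X] (A := L), trdeg_eq_zero (R := k[X]) (A := L), add_zero, Polynomial.trdeg_of_isDomain]

/-- Finite extensions have relative dimension zero. -/
theorem hasRelDim_zero_of_finite (ι : k →+* L) (h : ι.Finite) :
    Cyc.HasRelDim (Spec.map (CommRingCat.ofHom ι)) 0 := by
  haveI : IsFinite (Spec.map (CommRingCat.ofHom ι)) := (IsFinite.SpecMap_iff _).2 h
  refine hasRelDim_of_isShift (δX := fun _ => (0 : ℤ)) (δY := fun _ => (0 : ℤ)) (fun x _ => by simp) fun x => ⟨0, ?_, by simp⟩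
  rw [Nat.cast_zero]
  exact InsepLenLib.resTrdegAt_eq_zero_of_integral _ x

theorem isSetup_spec_const (k : Type u) [Field k] (e : ℤ) :
    Cyc.IsSetup (Spec (CommRingCat.of k)) (fun _ => e) :=
  ⟨(isSetup_spec_field k).1, (isSetup_spec_field k).2.1, fun _ _ _ hne => absurd (Subsingleton.elim _ _) hne⟩

/-- Rational equivalence only sees differences of the dimension function. -/
theorem ratEquivZero_shift {X : Scheme.{u}} {δ δ' : X → ℤ} {c n : ℤ} (h : ∀ x, δ' x = δ x + c)
    {α : AlgebraicCycle X ℤ} (h0 : Cyc.RatEquivZero δ n α) : Cyc.RatEquivZero δ' (n + c) α := by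
  obtain ⟨ι, ξ, f, h1, h2, h3, h4⟩ := h0
  refine ⟨ι, ξ, f, fun i => by rw [h, h1]; ring, h2, h3, fun x => (h4 x).trans (finsum_congr fun i => ?_)⟩
  unfold Cyc.divFun
  by_cases hc : ξ i ⤳ x ∧ δ x + 1 = δ (ξ i)
  · rw [dif_pos hc, dif_pos ⟨hc.1, by rw [h, h, ← hc.2]; ring⟩]
  · rw [dif_neg hc, dif_neg fun hc' => hc ⟨hc'.1, by have := hc'.2; rw [h, h] at this; omega⟩]

/-- A residually trivial map identifies compatible dimension functions. -/
theorem delta_preimmersion {Y Z S : Scheme.{u}} (π : Y ⟶ Z) [IsPreimmersion π] (q : Z ⟶ S) {δY : Y → ℤ}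
    {δZ : Z → ℤ} {δS : S → ℤ} (hY : Cyc.DeltaCompat (π ≫ q) δY δS) (hZ : Cyc.DeltaCompat q δZ δS) (y : Y) :
    δY y = δZ (π y) := by
  obtain ⟨n, hn, e⟩ := hY y
  obtain ⟨m, hm, e'⟩ := hZ (π y)
  have h1 := FlatDim.resTrdegAt_comp π q y
  rw [FlatDim.resTrdegAt_preimmersion π, add_zero] at h1
  obtain rfl : n = m := by exact_mod_cast hn.symm.trans (h1.trans hm)
  rw [e, e']
  rfl

variable (k)

/-- An open piece of the affine line is one-dimensional. -/
theorem hasRelDim_away (g : k[X]) (hg : g ≠ 0) :
    Cyc.HasRelDim (Spec.map (CommRingCat.ofHom (algebraMap k (Localization.Away g)))) 1 := by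
  let A := Localization.Away g
  haveI : IsDomain A :=
    IsLocalization.isDomain_localization (powers_le_nonZeroDivisors_of_noZeroDivisors hg)
  haveI : Algebra.FinitePresentation k[X] A := IsLocalization.Away.finitePresentation g
  haveI : Algebra.FiniteType k A := Algebra.FiniteType.trans (S := k[X]) inferInstance inferInstance
  let b := Spec.map (CommRingCat.ofHom (algebraMap k A))
  haveI : LocallyOfFiniteType b := (HasRingHomProperty.Spec_iff (P := @LocallyOfFiniteType)).2
    (RingHom.finiteType_algebraMap.2 inferInstance)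
  let L := FractionRing k[X]
  let φ : A →+* L := IsLocalization.Away.lift g
    (g := algebraMap k[X] L) (IsUnit.mk0 _ ((map_ne_zero_iff _ (IsFractionRing.injective k[X] L)).2 hg))
  letI := φ.toAlgebra
  haveI : IsScalarTower k[X] A L := .of_algebraMap_eq fun a => (IsLocalization.Away.lift_eq g _ a).symm
  haveI : IsFractionRing A L :=
    IsFractionRing.isFractionRing_of_isDomain_of_isLocalization (Submonoid.powers g) A L
  haveI : IsPreimmersion (Spec.map (CommRingCat.ofHom φ)) :=
    IsPreimmersion.of_isLocalization (nonZeroDivisors A)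
  obtain ⟨δA, hδA⟩ := exists_delta b (fun _ : Spec (CommRingCat.of k) => (0 : ℤ))
  refine hasRelDim_of_isShift (δX := δA) (δY := fun _ => (0 : ℤ)) (fun x hx => ?_) hδA
  let η : Spec (CommRingCat.of A) := Spec.map (CommRingCat.ofHom φ) (Classical.arbitrary (PrimeSpectrum L))
  have hbot : η.asIdeal = ⊥ := le_bot_iff.1 fun a ha => by
    have h1 : φ a ∈ (Classical.arbitrary (PrimeSpectrum L)).asIdeal := ha
    rw [(Ideal.eq_bot_or_top _).resolve_right (Classical.arbitrary (PrimeSpectrum L)).isPrime.ne_top,
      Ideal.mem_bot] at h1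
    exact (map_eq_zero_iff φ (IsFractionRing.injective A L)).1 h1
  have hxη : η = x := hx η (Subsingleton.elim _ _) ((PrimeSpectrum.le_iff_specializes _ _).1 (by
    show η.asIdeal ≤ x.asIdeal
    rw [hbot]
    exact bot_le))
  obtain ⟨n, hn, e⟩ := hδA x
  have h1 := FlatDim.resTrdegAt_comp (Spec.map (CommRingCat.ofHom φ)) b (Classical.arbitrary (PrimeSpectrum L))
  rw [FlatDim.resTrdegAt_preimmersion (Spec.map (CommRingCat.ofHom φ)), add_zero] at h1
  have h2 : Spec.map (CommRingCat.ofHom φ) ≫ b = Spec.map (CommRingCat.ofHom (algebraMap k L)) := by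
    rw [← Spec.map_comp]
    refine congrArg Spec.map (CommRingCat.hom_ext (RingHom.ext fun a => ?_))
    show φ (algebraMap k A a) = algebraMap k L a
    rw [IsScalarTower.algebraMap_apply k k[X] A, IsScalarTower.algebraMap_apply k k[X] L]
    exact (IsScalarTower.algebraMap_apply k[X] A L _).symm
  rw [FlatDim.resTrdegAt_congr h2, resTrdegAt_specMap (k := k) (L := L), trdeg_fractionRing (k := k) (L := L)] at h1
  have h3 : resTrdegAt b x = 1 := by rw [← hxη]; exact h1.symm
  obtain rfl : n = 1 := by exact_mod_cast hn.symm.trans h3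
  simpa using e

end Groth.Agent.ChowFldLib
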