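import Groth.Agent.ChowFldLib.Limit
import Groth.Agent.ChowFldLib.TransBase
import Mathlib.RingTheory.AdjoinRoot

/-!
# Injectivity for purely transcendental simple extensions
-/

set_option autoImplicit false
set_option backward.isDefEq.respectTransparency false
set_option linter.style.haveILetI false
set_option linter.unusedSectionVars false

universe u

open CategoryTheory CategoryTheory.Limits AlgebraicGeometry TopologicalSpace Polynomial

noncomputable section

namespace Groth.Agent.ChowFldLib

open CycLib BivarLib DimFormulaLib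

variable (k : Type u) [Field k]

/-- Nonzero polynomials, ordered by divisibility. -/
def Den : Type u := {g : k[X] // g ≠ 0}

instance : Preorder (Den k) where
  le a b := a.1 ∣ b.1
  le_refl a := dvd_refl a.1
  le_trans _ _ _ h h' := dvd_trans h h'

instance : IsDirected (Den k) (fun a b => a ≤ b) :=
  ⟨fun a b => ⟨⟨a.1 * b.1, mul_ne_zero a.2 b.2⟩, dvd_mul_right a.1 b.1, dvd_mul_left b.1 a.1⟩⟩

instance : Nonempty (Den k) := ⟨⟨1, one_ne_zero⟩⟩

variable {k}

def denMap {a b : Den k} (h : a ≤ b) : Localization.Away a.1 →+* Localization.Away b.1 :=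
  IsLocalization.Away.lift a.1 (g := algebraMap k[X] (Localization.Away b.1))
    (isUnit_of_dvd_unit (map_dvd _ h) (IsLocalization.Away.algebraMap_isUnit b.1))

theorem denMap_algebraMap {a b : Den k} (h : a ≤ b) (p : k[X]) :
    denMap h (algebraMap k[X] _ p) = algebraMap k[X] _ p :=
  IsLocalization.Away.lift_eq a.1 _ p

variable (k) in
abbrev denSys : Den k ⥤ CommRingCat.{u} where
  obj a := CommRingCat.of (Localization.Away a.1)
  map h := CommRingCat.ofHom (denMap h.le)
  map_id a := CommRingCat.hom_ext (IsLocalization.ringHom_ext (Submonoid.powers a.1)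
    (RingHom.ext fun p => denMap_algebraMap (le_refl a) p))
  map_comp {a b c} f g := CommRingCat.hom_ext (IsLocalization.ringHom_ext (Submonoid.powers a.1)
    (RingHom.ext fun p => (denMap_algebraMap (f.le.trans g.le) p).trans
      (((congrArg (denMap g.le) (denMap_algebraMap f.le p)).trans (denMap_algebraMap g.le p))).symm))

variable (L : Type u) [Field L] [Algebra k L] [Algebra k[X] L] [IsScalarTower k k[X] L] [IsFractionRing k[X] L]

def toFrac (a : Den k) : Localization.Away a.1 →+* L :=
  IsLocalization.Away.lift a.1 (g := algebraMap k[X] L)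
    (IsUnit.mk0 _ ((map_ne_zero_iff _ (IsFractionRing.injective k[X] L)).2 a.2))

theorem toFrac_algebraMap (a : Den k) (p : k[X]) : toFrac L a (algebraMap k[X] _ p) = algebraMap k[X] L p :=
  IsLocalization.Away.lift_eq a.1 _ p

theorem toFrac_injective (a : Den k) : Function.Injective (toFrac L a) :=
  (IsLocalization.lift_injective_iff _).2 fun x y => by
    rw [(IsLocalization.injective (Localization.Away a.1)
      (powers_le_nonZeroDivisors_of_noZeroDivisors a.2)).eq_iff, (IsFractionRing.injective k[X] L).eq_iff]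

theorem toFrac_comp (a : Den k) : (toFrac L a).comp (algebraMap k (Localization.Away a.1)) = algebraMap k L := by
  ext c
  rw [RingHom.comp_apply, IsScalarTower.algebraMap_apply k k[X] (Localization.Away a.1), toFrac_algebraMap,
    ← IsScalarTower.algebraMap_apply]

def denCocone : Cocone (denSys k) where
  pt := CommRingCat.of L
  ι :=
    { app := fun a => (CommRingCat.ofHom (toFrac L a) :
        CommRingCat.of (Localization.Away a.1) ⟶ CommRingCat.of L)
      naturality := fun a b f => CommRingCat.hom_ext (IsLocalization.ringHom_ext (Submonoid.powers a.1)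
        (RingHom.ext fun p => ((congrArg (toFrac L b) (denMap_algebraMap f.le p)).trans
          (toFrac_algebraMap L b p)).trans (toFrac_algebraMap L a p).symm)) }

theorem nonempty_isColimit_denCocone : Nonempty (IsColimit (denCocone (k := k) L)) :=
  AffLim.nonempty_isColimit_of_elementwise (denCocone L)
    (show ∀ x : L, ∃ (a : Den k) (y : Localization.Away a.1), toFrac L a y = x from fun x => by
      obtain ⟨p, s, hs, rfl⟩ := IsFractionRing.div_surjective (A := k[X]) x
      let a : Den k := ⟨s, nonZeroDivisors.ne_zero hs⟩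
      refine ⟨a, IsLocalization.mk' (Localization.Away a.1) p (⟨s, Submonoid.mem_powers _⟩ : Submonoid.powers a.1), ?_⟩
      rw [eq_div_iff ((map_ne_zero_iff _ (IsFractionRing.injective k[X] L)).2 a.2),
        ← toFrac_algebraMap L a s, ← toFrac_algebraMap L a p, ← map_mul]
      exact congrArg (toFrac L a) (IsLocalization.mk'_spec _ _ _))
    (fun a x y e => ⟨a, le_rfl, by rw [show x = y from toFrac_injective L a e]⟩)

theorem isOpenImmersion_denMap {a b : Den k} (f : a ⟶ b) : IsOpenImmersion (Spec.map ((denSys k).map f)) := by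
  haveI : IsOpenImmersion (Spec.map (CommRingCat.ofHom (algebraMap k[X] (Localization.Away a.1)))) :=
    IsOpenImmersion.of_isLocalization a.1
  haveI : IsOpenImmersion (Spec.map ((denSys k).map f) ≫
      Spec.map (CommRingCat.ofHom (algebraMap k[X] (Localization.Away a.1)))) := by
    rw [← Spec.map_comp]
    have h : CommRingCat.ofHom (algebraMap k[X] (Localization.Away a.1)) ≫ (denSys k).map f =
        CommRingCat.ofHom (algebraMap k[X] (Localization.Away b.1)) :=
      CommRingCat.hom_ext (RingHom.ext fun p => denMap_algebraMap f.le p)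
    rw [h]
    exact IsOpenImmersion.of_isLocalization b.1
  exact IsOpenImmersion.of_comp _ (Spec.map (CommRingCat.ofHom (algebraMap k[X] (Localization.Away a.1))))

theorem isPreimmersion_toFrac (a : Den k) : IsPreimmersion (Spec.map ((denCocone (k := k) L).ι.app a)) := by
  letI := (toFrac L a).toAlgebra
  haveI : IsScalarTower k[X] (Localization.Away a.1) L := .of_algebraMap_eq fun p => (toFrac_algebraMap L a p).symm
  haveI : IsDomain (Localization.Away a.1) :=
    IsLocalization.isDomain_localization (powers_le_nonZeroDivisors_of_noZeroDivisors a.2)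
  haveI : IsFractionRing (Localization.Away a.1) L :=
    IsFractionRing.isFractionRing_of_isDomain_of_isLocalization (Submonoid.powers a.1) _ L
  exact IsPreimmersion.of_isLocalization (S := L) (nonZeroDivisors (Localization.Away a.1))

theorem flat_toFrac (a : Den k) : Flat (Spec.map ((denCocone (k := k) L).ι.app a)) := by
  letI := (toFrac L a).toAlgebra
  haveI : IsScalarTower k[X] (Localization.Away a.1) L := .of_algebraMap_eq fun p => (toFrac_algebraMap L a p).symm
  haveI : IsDomain (Localization.Away a.1) :=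
    IsLocalization.isDomain_localization (powers_le_nonZeroDivisors_of_noZeroDivisors a.2)
  haveI : IsFractionRing (Localization.Away a.1) L :=
    IsFractionRing.isFractionRing_of_isDomain_of_isLocalization (Submonoid.powers a.1) _ L
  haveI : Module.Flat (Localization.Away a.1) L := IsLocalization.flat L (nonZeroDivisors (Localization.Away a.1))
  exact Flat.SpecMap_iff.2 ((RingHom.flat_algebraMap_iff (R := Localization.Away a.1) (S := L)).2 inferInstance)

/-- Some point of the affine line avoids a given closed set. -/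
theorem exists_irreducible_not_dvd (g : k[X]) (hg : g ≠ 0) : ∃ Q : k[X], Irreducible Q ∧ ¬Q ∣ g := by
  have hd : (Polynomial.X * g + 1).natDegree = g.natDegree + 1 := by
    rw [natDegree_add_eq_left_of_natDegree_lt] <;> rw [natDegree_X_mul hg]
    simp
  have hu : ¬IsUnit (Polynomial.X * g + 1) := fun h => by
    have := natDegree_eq_zero_of_isUnit h
    omega
  obtain ⟨Q, hQ, hQd⟩ := WfDvdMonoid.exists_irreducible_factor hu fun h => by simp [h] at hd
  exact ⟨Q, hQ, fun h => hQ.not_isUnit (isUnit_of_dvd_one ((dvd_add_right (h.mul_left _)).1 hQd))⟩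

/-- Specialisation at a closed point of the affine line. -/
theorem exists_specialisation (g : k[X]) (hg : g ≠ 0) :
    ∃ (E : Type u) (_ : Field E) (ι : k →+* E) (ρ : Localization.Away g →+* E) (t : Localization.Away g),
      ι.Finite ∧ ρ.comp (algebraMap k (Localization.Away g)) = ι ∧ Function.Surjective ρ ∧ t ≠ 0 ∧
        RingHom.ker ρ = Ideal.span {t} := by
  obtain ⟨Q, hQ, hQg⟩ := exists_irreducible_not_dvd g hg
  haveI := Fact.mk hQ
  let E := AdjoinRoot Q
  have hu : IsUnit (AdjoinRoot.mk Q g) := IsUnit.mk0 _ fun h => hQg (AdjoinRoot.mk_eq_zero.1 h)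
  let ρ : Localization.Away g →+* E := IsLocalization.Away.lift g (g := AdjoinRoot.mk Q) hu
  have hρ : ∀ p, ρ (algebraMap k[X] _ p) = AdjoinRoot.mk Q p := IsLocalization.Away.lift_eq g hu
  haveI : Module.Finite k E := (AdjoinRoot.powerBasis hQ.ne_zero).finite
  refine ⟨E, inferInstance, algebraMap k E, ρ, algebraMap k[X] _ Q,
    RingHom.finite_algebraMap.2 inferInstance, RingHom.ext fun c => ?_, fun x => ?_, ?_, ?_⟩
  · rw [RingHom.comp_apply, IsScalarTower.algebraMap_apply k k[X] (Localization.Away g), hρ]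
    rfl
  · obtain ⟨p, rfl⟩ := AdjoinRoot.mk_surjective x
    exact ⟨_, hρ p⟩
  · rw [(map_ne_zero_iff _ (IsLocalization.injective (Localization.Away g)
      (powers_le_nonZeroDivisors_of_noZeroDivisors hg)))]
    exact hQ.ne_zero
  · refine le_antisymm (fun x hx => ?_) ((Ideal.span_singleton_le_iff_mem _).2
      (RingHom.mem_ker.2 ((hρ Q).trans AdjoinRoot.mk_self)))
    obtain ⟨⟨p, s⟩, hxe⟩ := IsLocalization.surj (Submonoid.powers g) x
    have h1 : AdjoinRoot.mk Q p = 0 := by
      rw [← hρ, ← hxe, map_mul, RingHom.mem_ker.1 hx, zero_mul]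
    obtain ⟨p', rfl⟩ := AdjoinRoot.mk_eq_zero.1 h1
    rw [Ideal.mem_span_singleton]
    refine ((IsLocalization.map_units (Localization.Away g) s).dvd_mul_right).1 ?_
    rw [hxe, map_mul]
    exact dvd_mul_right _ _

theorem vanishing_iff {Y : Scheme.{u}} {R : Type u} [CommRing R] (f : Y ⟶ Spec (CommRingCat.of R)) (t : R) (y : Y) :
    IsUnit (TFOneLib.gt f y t) ↔ t ∉ (f y).asIdeal := by
  have he : TFOneLib.gt f y t = f.stalkMap y ((Spec (CommRingCat.of R)).presheaf.germ ⊤ (f y) trivial
      ((Scheme.ΓSpecIso (CommRingCat.of R)).inv t)) :=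
    (Scheme.Hom.germ_stalkMap_apply f ⊤ y trivial _).symm
  rw [he, isUnit_map_iff]
  refine (((Spec (CommRingCat.of R)).mem_basicOpen_top _ (f y))).symm.trans ?_
  rw [basicOpen_eq_of_affine', Iso.inv_hom_id_apply]
  exact PrimeSpectrum.mem_basicOpen _ _

/-- The zero scheme of a pulled-back parameter. -/
theorem isZeroSchemeOf_gt {Y D : Scheme.{u}} {R κ : Type u} [CommRing R] [CommRing κ] {ρ : R →+* κ}
    {f : Y ⟶ Spec (CommRingCat.of R)} {i : D ⟶ Y} {p : D ⟶ Spec (CommRingCat.of κ)}
    (hsq : IsPullback i p f (Spec.map (CommRingCat.ofHom ρ))) (hρ : Function.Surjective ρ) {t : R}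
    (hker : RingHom.ker ρ = Ideal.span {t}) [IsClosedImmersion i] :
    Cyc.IsZeroSchemeOf i (Coh.structureModule Y) (Coh.toGlobal f t) := by
  have hgm : ∀ y : Y, (Coh.structureModule Y).presheaf.germ ⊤ y trivial (Coh.toGlobal f t) =
      TFOneLib.gt f y t • ParaFLib.oneG y := fun y => by
    refine Eq.trans ?_ (ParaFLib.germ_smul' (M := Coh.structureModule Y) (U := ⊤) y trivial _ _)
    exact congrArg _ (ParaFLib.smul_one_eq _).symm
  refine ⟨Set.ext fun y => ?_, fun d => ⟨ParaFLib.oneG (i d), TFOneLib.gt f (i d) t, ?_, hgm _,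
    TFOneLib.ker_stalkMap hsq hρ hker d⟩⟩
  · have hr : Set.range i = f ⁻¹' Set.range (Spec.map (CommRingCat.ofHom ρ)) := by
      rw [← hsq.isoPullback_hom_fst, ← Scheme.Pullback.range_fst, Scheme.Hom.comp_base, TopCat.coe_comp]
      exact (Scheme.homeoOfIso hsq.isoPullback).surjective.range_comp _
    rw [hr, Set.mem_preimage, Set.mem_setOf_eq, hgm]
    refine Iff.trans ?_ (smul_mkF_eq_zero_iff (ParaFLib.bijective_oneG y) _).symm
    show _ ↔ IsLocalRing.residue _ (TFOneLib.gt f y t) = 0
    rw [IsLocalRing.residue_eq_zero_iff, IsLocalRing.mem_maximalIdeal, mem_nonunits_iff, vanishing_iff, not_not]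
    show f y ∈ Set.range (PrimeSpectrum.comap ρ) ↔ _
    rw [range_comap_of_surjective _ _ hρ, hker, PrimeSpectrum.zeroLocus_span,
      PrimeSpectrum.mem_zeroLocus, Set.singleton_subset_iff]
    rfl
  · exact Submodule.eq_top_iff'.2 fun z => Submodule.mem_span_singleton.2 ((ParaFLib.bijective_oneG (i d)).2 z)

/-- A parameter of a domain is regular on a scheme flat over it. -/
theorem injective_germ_gt {Y : Scheme.{u}} {R : Type u} [CommRing R] [IsDomain R]
    (f : Y ⟶ Spec (CommRingCat.of R)) [Flat f] {t : R} (ht : t ≠ 0) (y : Y) :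
    Function.Injective fun a : Y.presheaf.stalk y =>
      a • (Coh.structureModule Y).presheaf.germ ⊤ y trivial (Coh.toGlobal f t) := by
  have hgm : (Coh.structureModule Y).presheaf.germ ⊤ y trivial (Coh.toGlobal f t) =
      TFOneLib.gt f y t • ParaFLib.oneG y := by
    refine Eq.trans ?_ (ParaFLib.germ_smul' (M := Coh.structureModule Y) (U := ⊤) y trivial _ _)
    exact congrArg _ (ParaFLib.smul_one_eq _).symm
  have he : TFOneLib.gt f y t = f.stalkMap y ((Spec (CommRingCat.of R)).presheaf.germ ⊤ (f y) trivial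
      ((Scheme.ΓSpecIso (CommRingCat.of R)).inv t)) :=
    (Scheme.Hom.germ_stalkMap_apply f ⊤ y trivial _).symm
  have hne : (Spec (CommRingCat.of R)).presheaf.germ ⊤ (f y) trivial
      ((Scheme.ΓSpecIso (CommRingCat.of R)).inv t) ≠ 0 := fun h =>
    ht ((Scheme.ΓSpecIso (CommRingCat.of R)).commRingCatIsoToRingEquiv.symm.injective
      ((germ_injective_of_isIntegral _ (f y) (U := ⊤) trivial (h.trans (map_zero _).symm)).trans (map_zero _).symm))
  letI := (f.stalkMap y).hom.toAlgebra
  haveI : Module.Flat ((Spec (CommRingCat.of R)).presheaf.stalk (f y)) (Y.presheaf.stalk y) := Flat.stalkMap f y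
  have hr : IsSMulRegular (Y.presheaf.stalk y) ((Spec (CommRingCat.of R)).presheaf.germ ⊤ (f y) trivial
      ((Scheme.ΓSpecIso (CommRingCat.of R)).inv t)) :=
    Module.Flat.isSMulRegular_of_nonZeroDivisors (mem_nonZeroDivisors_of_ne_zero hne)
  intro a a' e
  simp only [hgm, smul_smul] at e
  have e' := (ParaFLib.bijective_oneG y).1 e
  rw [mul_comm a, mul_comm a', he] at e'
  exact hr e'

/-- Injectivity for a purely transcendental simple extension. -/
theorem inj_of_fractionRing : Inj (algebraMap k L) := by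
  intro X Y pX _ _ pY gY sq δX δY hX hY n α hα α' hα' h0
  classical
  let b : ∀ a : Den k, Spec ((denSys k).obj a) ⟶ Spec (CommRingCat.of k) :=
    fun a => Spec.map (CommRingCat.ofHom (algebraMap k (Localization.Away a.1)))
  haveI hlft : ∀ a : Den k, LocallyOfFiniteType (b a) := fun a => by
    haveI : Algebra.FinitePresentation k[X] (Localization.Away a.1) := IsLocalization.Away.finitePresentation a.1
    haveI : Algebra.FiniteType k (Localization.Away a.1) := Algebra.FiniteType.trans (S := k[X]) inferInstance inferInstance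
    exact (HasRingHomProperty.Spec_iff (P := @LocallyOfFiniteType)).2 (RingHom.finiteType_algebraMap.2 inferInstance)
  let q : ∀ a : Den k, pullback pX (b a) ⟶ Spec (CommRingCat.of k) := fun a => pullback.fst pX (b a) ≫ pX
  choose δ₁ hδ₁ using fun a : Den k => exists_delta (q a) (fun _ => (0 : ℤ))
  let δ : ∀ a : Den k, ↥(pullback pX (b a)) → ℤ := fun a x => δ₁ a x - 1
  have hδ : ∀ a, Cyc.DeltaCompat (q a) (δ a) (fun _ => (-1 : ℤ)) := fun a x => by
    obtain ⟨m, hm, e⟩ := hδ₁ a x
    exact ⟨m, hm, by show δ₁ a x - 1 = _; rw [e]; ring⟩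
  have hset : ∀ a, Cyc.IsSetup (pullback pX (b a)) (δ a) := fun a =>
    isSetup_of_lft (q a) (isSetup_spec_const k (-1)) (hδ a)
  have hset₁ : ∀ a, Cyc.IsSetup (pullback pX (b a)) (δ₁ a) := fun a =>
    isSetup_of_lft (q a) (isSetup_spec_field k) (hδ₁ a)
  have hsX := setup_X hX
  haveI := hsX.1
  have hp₁ : ∀ a, Cyc.DeltaCompat (pullback.fst pX (b a)) (δ₁ a) δX := fun a =>
    deltaCompat_of_comp _ pX (hδ₁ a) hX
  have hfl : ∀ a, Flat (pullback.fst pX (b a)) := fun a => MorphismProperty.pullback_fst _ _ (flat_spec _)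
  have hrd : ∀ a, Cyc.HasRelDim (pullback.fst pX (b a)) 1 := fun a =>
    hasRelDim_baseChange (IsPullback.of_hasPullback pX (b a)).flip 1 (hasRelDim_away k a.1 a.2)
  have hsh₁ : ∀ a, IsShift (pullback.fst pX (b a)) (δ₁ a) δX (1 : ℕ) := fun a => by
    haveI := hfl a
    exact IsShift.of_relDim (hset₁ a) hsX 1 (hrd a) (hp₁ a)
  have hsh₀ : ∀ a, IsShift (pullback.fst pX (b a)) (δ a) δX 0 := fun a x hx => by
    have := hsh₁ a x hx
    show δ₁ a x - 1 = _
    omega
  have hsL : Cyc.DeltaCompat (Spec.map (CommRingCat.ofHom (algebraMap k L)))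
      (fun _ => (0 : ℤ)) (fun _ => (-1 : ℤ)) := fun s =>
    ⟨1, (resTrdegAt_specMap (k := k) (L := L) s).trans (by rw [trdeg_fractionRing]; rfl), by simp⟩
  have hYk : Cyc.DeltaCompat (pY ≫ Spec.map (CommRingCat.ofHom (algebraMap k L))) δY (fun _ => (-1 : ℤ)) :=
    CycLib.deltaCompat_comp (p := Spec.map (CommRingCat.ofHom (algebraMap k L))) hsL hY
  have hlim := exists_stage (denSys k) (denCocone L) (nonempty_isColimit_denCocone L).some b
    (fun i j f => (Spec.map_comp _ _).symm.trans (congrArg Spec.map (CommRingCat.hom_ext (RingHom.ext fun c => by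
      show denMap f.le (algebraMap k _ c) = algebraMap k _ c
      rw [IsScalarTower.algebraMap_apply k k[X] (Localization.Away i.1), denMap_algebraMap,
        ← IsScalarTower.algebraMap_apply]))))
    (Spec.map (CommRingCat.ofHom (algebraMap k L)))
    (fun i => (Spec.map_comp _ _).symm.trans (congrArg Spec.map (CommRingCat.hom_ext (toFrac_comp L i))))
    sq
    (fun i j f => by
      haveI := isOpenImmersion_denMap f
      infer_instance)
    (fun i => flat_toFrac L i) (fun i => flat_spec _) δ hsX hset (setup_Y sq hY) hsh₀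
    (fun i j f φ hφ hφf => by
      haveI := isOpenImmersion_denMap f
      haveI : IsPreimmersion φ := MorphismProperty.of_isPullback hφ.flip inferInstance
      intro x _
      rw [add_zero]
      refine delta_preimmersion φ (q i) ?_ (hδ i) x
      show Cyc.DeltaCompat (φ ≫ pullback.fst pX (b i) ≫ pX) _ _
      rw [reassoc_of% hφf]
      exact hδ j)
    (fun i π hπ hπf => by
      haveI := isPreimmersion_toFrac L i
      haveI : IsPreimmersion π := MorphismProperty.of_isPullback hπ.flip inferInstance
      intro y _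
      rw [add_zero]
      refine delta_preimmersion π (q i) ?_ (hδ i) y
      show Cyc.DeltaCompat (π ≫ pullback.fst pX (b i) ≫ pX) _ _
      rw [reassoc_of% hπf, sq.w]
      exact hYk)
    n α hα α' hα' h0
  obtain ⟨a, β, hβ, hβ0⟩ := hlim
  obtain ⟨E, _, ι, ρ, t, hι, hρι, hρ, ht, hker⟩ := exists_specialisation a.1 a.2
  haveI : IsDomain (Localization.Away a.1) :=
    IsLocalization.isDomain_localization (powers_le_nonZeroDivisors_of_noZeroDivisors a.2)
  let Z := pullback pX (b a)
  let p := pullback.fst pX (b a)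
  let f : Z ⟶ Spec (CommRingCat.of (Localization.Away a.1)) := pullback.snd pX (b a)
  haveI : Flat f := MorphismProperty.pullback_snd _ _ (flat_spec pX)
  haveI : IsClosedImmersion (Spec.map (CommRingCat.ofHom ρ)) := IsClosedImmersion.spec_of_surjective _ hρ
  let D := pullback f (Spec.map (CommRingCat.ofHom ρ))
  let i : D ⟶ Z := pullback.fst f (Spec.map (CommRingCat.ofHom ρ))
  let pD : D ⟶ Spec (CommRingCat.of E) := pullback.snd f (Spec.map (CommRingCat.ofHom ρ))
  have hsι : Spec.map (CommRingCat.ofHom ρ) ≫ b a = Spec.map (CommRingCat.ofHom ι) :=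
    (Spec.map_comp _ _).symm.trans (congrArg Spec.map (CommRingCat.hom_ext hρι))
  have sqD : IsPullback (i ≫ p) pD pX (Spec.map (CommRingCat.ofHom ι)) := hsι ▸
    (IsPullback.of_hasPullback f (Spec.map (CommRingCat.ofHom ρ))).paste_horiz (IsPullback.of_hasPullback pX (b a))
  haveI := lft_pY sqD
  haveI : Flat (i ≫ p) := flat_g sqD
  haveI := hfl a
  haveI := (hset₁ a).1
  let δD : D → ℤ := fun d => δ₁ a (i d)
  have hDc : Cyc.DeltaCompat pD δD (fun _ => (0 : ℤ)) := by
    refine deltaCompat_of_comp (δY := fun _ => (0 : ℤ)) (δZ := fun _ => (0 : ℤ)) pD (Spec.map (CommRingCat.ofHom ι)) ?_ fun s => ⟨0, ?_, (add_zero (0 : ℤ)).symm⟩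
    · rw [← sqD.w, Category.assoc]
      exact CycLib.deltaCompat_comp (p := q a) (hδ₁ a) (deltaCompat_preimmersion i (δ₁ a))
    · haveI : IsFinite (Spec.map (CommRingCat.ofHom ι)) := (IsFinite.SpecMap_iff _).2 hι
      rw [Nat.cast_zero]
      exact InsepLenLib.resTrdegAt_eq_zero_of_integral _ s
  have h1 : Cyc.RatEquivZero (δ₁ a) (n + 1) β := ratEquivZero_shift (fun x => by show δ₁ a x = δ₁ a x - 1 + 1; ring) hβ0
  have hpb : ∀ x, Cyc.pullFun p (δ₁ a) δX (((0 : ℕ) : ℤ) + 1) (⇑α) x = β x := fun x => by
    rw [hβ, pullFun_apply, pullFun_apply]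
    by_cases h : δ₁ a x = δX (p x) + 1
    · rw [if_pos (by rw [Nat.cast_zero, zero_add]; exact h), if_pos (show δ₁ a x - 1 = δX (p x) + 0 by omega)]
    · rw [if_neg (by rw [Nat.cast_zero, zero_add]; exact h), if_neg (show ¬δ₁ a x - 1 = δX (p x) + 0 by omega)]
  let s : (Coh.structureModule Z).presheaf.obj (Opposite.op ⊤) := Coh.toGlobal f t
  have hL : PicF.IsInvertible (Coh.structureModule Z) := ParaFLib.isInvertible_structureModule
  have hzs : Cyc.IsZeroSchemeOf i (Coh.structureModule Z) s :=
    isZeroSchemeOf_gt (IsPullback.of_hasPullback f (Spec.map (CommRingCat.ofHom ρ))) hρ hker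
  let w : (ξ : Z) → Cyc.secFibre (Coh.structureModule Z) ξ := fun ξ => mkF _ ξ (ParaFLib.oneG ξ)
  have hw : ∀ ξ, w ξ ≠ 0 := fun ξ e => by
    have := (smul_mkF_eq_zero_iff (ParaFLib.bijective_oneG ξ) 1).1 (by rw [one_smul]; exact e)
    rw [map_one] at this
    exact one_ne_zero this
  let γ : AlgebraicCycle D ℤ := restrictCycle i (c1Cycle (hset₁ a).2.2 hL β (Cyc.gysinChoice _ s w))
  have hγ0 : Cyc.RatEquivZero δD n γ := gysin_ratEquivZero (hset₁ a) hL hzs hw h1 γ fun d => rfl
  haveI : IsFinite (Spec.map (CommRingCat.ofHom ι)) := (IsFinite.SpecMap_iff _).2 hι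
  have hrD : Cyc.HasRelDim (i ≫ p) 0 := hasRelDim_baseChange sqD.flip 0 (hasRelDim_zero_of_finite ι hι)
  have hsD : IsShift (i ≫ p) δD δX 0 := isShift_fieldExt sqD hX hDc
  have hsetD := setup_Y sqD hDc
  haveI := hsetD.1
  let ζ := pullHom hsD hsetD.2.2 α
  have hsame := S1945.result Z X D (δ₁ a) δX (hset₁ a) hsX p 0 (hrd a) (hp₁ a) _ hL s
    (injective_germ_gt f ht) i hzs hrD (n - 1) α (by rwa [sub_add_cancel]) w hw γ ζ
    (fun d => by rw [funext hpb]; rfl) rfl
  have hζ0 : Cyc.RatEquivZero δD n ζ := by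
    have e : n - 1 + ((0 : ℕ) : ℤ) + 1 = n := by push_cast; ring
    rw [e] at hsame
    have := ratEquivZero_sub hsetD.2.2 hγ0 hsame
    rwa [sub_sub_cancel] at this
  exact inj_of_finite ι hι X D pX pD (i ≫ p) sqD δX δD hX hDc n α hα ζ rfl hζ0

end Groth.Agent.ChowFldLib
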