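import Groth.Agent.ChowFldLib.Reduce
import Groth.Agent.ChowFldLib.Trans
import Mathlib.FieldTheory.RatFunc.AsPolynomial

/-!
# Base change of cycles along any field extension is injective up to torsion
-/

set_option autoImplicit false
set_option backward.isDefEq.respectTransparency false
set_option linter.style.haveILetI false

universe u

open IntermediateField

noncomputable section

namespace Groth.Agent.ChowFldLib

variable (k K : Type u) [Field k] [Field K] [Algebra k K]

theorem inj_simple (E : IntermediateField k K) (x : K) : Inj (algebraMap E E⟮x⟯) := by
  by_cases h : Transcendental E x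
  · let e := RatFunc.algEquivOfTranscendental x h
    have h1 : Inj (algebraMap E (RatFunc E)) := inj_of_fractionRing (k := E) (RatFunc E)
    have h2 : Inj (e.toRingEquiv.toRingHom) :=
      inj_of_finite _ (RingHom.Finite.of_surjective _ e.surjective)
    have h3 := h1.comp h2
    rwa [show e.toRingEquiv.toRingHom.comp (algebraMap E (RatFunc E)) = algebraMap E E⟮x⟯ from
      RingHom.ext e.commutes] at h3
  · haveI : FiniteDimensional E E⟮x⟯ :=
      adjoin.finiteDimensional (isAlgebraic_iff_isIntegral.1 (not_not.1 h))
    exact inj_of_finite _ (RingHom.finite_algebraMap.2 inferInstance)

/-- Rational injectivity of base change of cycles along any field extension. -/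
theorem inj : Inj (algebraMap k K) := inj_of_fg (inj_of_simple (inj_simple k K))

end Groth.Agent.ChowFldLib
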